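import Cfsg.Agent.U62Three.Facts
import Cfsg.Agent.Core.PCore
import Cfsg.Agent.LargeExtra.SingularSubgroup

/-!
# PSU₆(2) from a centraliser of order three: the endgame, basic facts

`z` is not central, the involution of transvection type is not isolated modulo `O(G)`, and centralisers
of normal subgroups containing `Q` are trivial.
-/

set_option autoImplicit false

open Subgroup

namespace Cfsg.Agent.U62Three.D

/-- The conclusion. -/
def Concl (G : Type*) [Group G] : Prop :=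
  ∃ (G₀ : Subgroup G) (F₄ : Type) (_ : Field F₄) (_ : Fintype F₄), G₀.Normal ∧ Fintype.card F₄ = 4 ∧
    Nonempty (↥G₀ ≃* PSU 6 F₄ 2) ∧ centralizer (G₀ : Set G) = ⊥

variable {G : Type*} [Group G] [Finite G] {z : G} {Q : Subgroup G}

theorem z_mem (hH : Hyp z Q) : z ∈ Q := by
  have h : z ∈ (center ↥Q).map Q.subtype := hH.centre.symm ▸ mem_zpowers z
  exact map_subtype_le _ h

/-- What centralises `Q` is in `⟨z⟩`. -/
theorem cent_Q_le (hH : Hyp z Q) : centralizer (Q : Set G) ≤ zpowers z := by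
  intro x hx
  rw [← hH.centre]
  refine ⟨⟨x, hH.self hx⟩, mem_center_iff.2 fun q => Subtype.ext ?_, rfl⟩
  exact mem_centralizer_iff.1 hx q q.2

/-- `z` is not central. -/
theorem not_central (hH : Hyp z Q) : z ∉ center G := fun h => by
  obtain ⟨g, -, hg⟩ := hH.moved
  exact hg (by rw [mem_center_iff.1 h g, mul_inv_cancel_right]; exact z_mem hH)

/-- The centraliser of a normal subgroup containing `Q` is trivial. -/
theorem centralizer_eq_bot (hH : Hyp z Q) {N : Subgroup G} [N.Normal] (hQ : Q ≤ N) :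
    centralizer (N : Set G) = ⊥ := by
  rw [eq_bot_iff]
  intro x hx
  have hxz : x ∈ zpowers z := cent_Q_le hH (Subgroup.centralizer_le (SetLike.coe_subset_coe.2 hQ) hx)
  by_contra hx1
  rw [mem_bot] at hx1
  have hzx : z ∈ zpowers x := by
    have ho : orderOf x = 3 := by
      refine orderOf_eq_prime (p := 3) ?_ hx1
      obtain ⟨k, rfl⟩ := mem_zpowers_iff.1 hxz
      rw [← zpow_natCast, ← zpow_mul, mul_comm, zpow_mul, zpow_natCast, ← hH.oz, pow_orderOf_eq_one,
        one_zpow]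
    rw [Subgroup.eq_of_le_of_card_ge (zpowers_le.2 hxz)
      (by rw [Nat.card_zpowers, Nat.card_zpowers, ho, hH.oz])]
    exact mem_zpowers z
  have hzc : z ∈ centralizer (N : Set G) := zpowers_le.2 hx hzx
  have hN : (centralizer (N : Set G)).Normal := Subgroup.normal_centralizer
  obtain ⟨g, hg, hgn⟩ := hH.moved
  have hgc : g * z * g⁻¹ ∈ centralizer (N : Set G) := hN.conj_mem z hzc g
  have := cent_Q_le hH (Subgroup.centralizer_le (SetLike.coe_subset_coe.2 hQ) hgc)
  exact hgn (zpowers_le.2 (z_mem hH) this)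

variable (D : Facts z Q)

/-- The transvection has a conjugate acting on `J` as a disjoint transposition. -/
theorem exists_other : ∃ n : G, ∀ a b, n * D.t 0 * n⁻¹ * D.F.j a b * (n * D.t 0 * n⁻¹)⁻¹ =
    D.F.j (Equiv.swap 2 3 a) (Equiv.swap 2 3 b) := by
  let σ : Equiv.Perm (Fin 6) := Equiv.swap 0 2 * Equiv.swap 1 3
  obtain ⟨n, -, hn⟩ := D.F.perm σ
  have key : ∀ a, σ (Equiv.swap 0 1 (σ⁻¹ a)) = Equiv.swap 2 3 a := by decide +kernel
  refine ⟨n, fun a b => ?_⟩
  have hinv : n⁻¹ * D.F.j a b * n = D.F.j (σ⁻¹ a) (σ⁻¹ b) := by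
    have h := hn (σ⁻¹ a) (σ⁻¹ b)
    rw [Equiv.Perm.coe_inv, Equiv.apply_symm_apply, Equiv.apply_symm_apply] at h
    rw [← h]; simp only [Equiv.Perm.coe_inv]; group
  calc n * D.t 0 * n⁻¹ * D.F.j a b * (n * D.t 0 * n⁻¹)⁻¹
      = n * (D.t 0 * (n⁻¹ * D.F.j a b * n) * (D.t 0)⁻¹) * n⁻¹ := by group
    _ = _ := by
      rw [hinv, D.t_zero, hn, key a, key b]

/-- The transvection is not isolated modulo `O(G)`. -/
theorem not_isolated : centralizer ({D.t 0} : Set G) ⊔ Cfsg.oddCore G ≠ ⊤ := by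
  intro htop
  obtain ⟨n, hn⟩ := exists_other D
  obtain ⟨o, ho, c, hc, rfl⟩ :=
    mem_sup_of_normal_left.1 (show n ∈ Cfsg.oddCore G ⊔ centralizer ({D.t 0} : Set G) by
      rw [sup_comm, htop]; exact mem_top _)
  set t := D.t 0
  have hc' : c * t * c⁻¹ = t := by
    rw [mem_centralizer_singleton_iff.1 hc, mul_inv_cancel_right]
  set w := t * (o * c * t * (o * c)⁻¹) with hw
  have hwo : w ∈ Cfsg.oddCore G := by
    have e : w = (t * o * t⁻¹) * (t * t) * o⁻¹ := by
      rw [hw, show o * c * t * (o * c)⁻¹ = o * (c * t * c⁻¹) * o⁻¹ by group, hc']; group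
    rw [e, show t * t = 1 by rw [← pow_two, ← D.t_order 0, pow_orderOf_eq_one], mul_one]
    exact mul_mem ((inferInstance : (Cfsg.oddCore G).Normal).conj_mem o ho t) (inv_mem ho)
  have hodd : ¬ 2 ∣ orderOf w := fun h => by
    have h1 : (Nat.card ↥(Cfsg.oddCore G)).Coprime 2 := Core.coprime_card_pPrimeCore
    have h2 : orderOf w ∣ Nat.card ↥(Cfsg.oddCore G) := by
      rw [← Subgroup.orderOf_mk w hwo]; exact orderOf_dvd_natCard _
    exact absurd (Nat.eq_one_of_dvd_coprimes h1 (dvd_trans h h2) dvd_rfl) (by norm_num)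
  let π : Equiv.Perm (Fin 6) := Equiv.swap 0 1 * Equiv.swap 2 3
  have hact : ∀ k : ℕ, ∀ a b, w ^ k * D.F.j a b * (w ^ k)⁻¹ = D.F.j ((π ^ k) a) ((π ^ k) b) := by
    intro k
    induction k with
    | zero => simp
    | succ k ih =>
      intro a b
      rw [pow_succ', pow_succ', Equiv.Perm.mul_apply, Equiv.Perm.mul_apply,
        show w * w ^ k * D.F.j a b * (w * w ^ k)⁻¹ = w * (w ^ k * D.F.j a b * (w ^ k)⁻¹) * w⁻¹ by
          group, ih]
      calc w * D.F.j ((π ^ k) a) ((π ^ k) b) * w⁻¹ = t * (o * c * t * (o * c)⁻¹ *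
            D.F.j ((π ^ k) a) ((π ^ k) b) * (o * c * t * (o * c)⁻¹)⁻¹) * t⁻¹ := by rw [hw]; group
        _ = D.F.j (π ((π ^ k) a)) (π ((π ^ k) b)) := by rw [hn, D.t_zero]; rfl
  obtain ⟨k, hk⟩ : ∃ k, orderOf w = 2 * k + 1 := ⟨orderOf w / 2, by omega⟩
  have h01 := hact (orderOf w) 0 1
  rw [pow_orderOf_eq_one, one_mul, inv_one, mul_one, hk, pow_succ, pow_mul,
    show π ^ 2 = 1 by decide +kernel, one_pow, one_mul, show π 0 = 1 by decide +kernel,
    show π 1 = 0 by decide +kernel] at h01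
  have h11 : D.F.j 1 1 = 1 := by
    have h := D.F.cocycle 1 1 1
    exact mul_eq_left.1 h
  have h10 : D.F.j 0 1 * D.F.j 0 1 = D.F.j 0 0 := by
    conv_lhs => arg 2; rw [h01]
    exact D.F.cocycle 0 1 0
  have h00 : D.F.j 0 0 = 1 := mul_eq_left.1 (D.F.cocycle 0 0 0)
  have hj : D.F.j 0 1 = 1 := by
    have h3 := D.F.cube 0 1
    rwa [h10, h00, one_mul] at h3
  have hall : ∀ a b, D.F.j a b = 1 := by
    intro a b
    by_cases hab : a = b
    · subst hab; exact mul_eq_left.1 (D.F.cocycle a a a)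
    obtain ⟨σ, hσ0, hσ1⟩ : ∃ σ : Equiv.Perm (Fin 6), σ 0 = a ∧ σ 1 = b := by
      refine ⟨Equiv.swap (Equiv.swap 0 a 1) b * Equiv.swap 0 a, ?_, ?_⟩
      · have h0a : Equiv.swap (0 : Fin 6) a 0 = a := Equiv.swap_apply_left _ _
        rw [Equiv.Perm.mul_apply, h0a, Equiv.swap_apply_of_ne_of_ne ?_ hab]
        intro e
        rw [← h0a] at e
        exact absurd ((Equiv.swap 0 a).injective e) (by decide)
      · rw [Equiv.Perm.mul_apply, Equiv.swap_apply_left]
    obtain ⟨m, -, hm⟩ := D.F.perm σ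
    rw [← hσ0, ← hσ1, ← hm, hj, mul_one, mul_inv_cancel]
  have hJ : D.F.J = ⊥ := by
    rw [D.F.span, closure_eq_bot_iff]
    rintro _ ⟨x, rfl⟩
    exact hall _ _
  have hcard := D.F.card
  rw [hJ, Subgroup.card_bot] at hcard
  norm_num at hcard

end Cfsg.Agent.U62Three.D
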