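import Cfsg.Agent.U62Three.D.Basic
import Cfsg.Agent.U62Three.K.Z.Point
import Cfsg.Agent.U62Three.K.Z.Relabel

/-!
# PSU₆(2) from a centraliser of order three: the conjugates of `z` in the centraliser of the frame

In the wide case they lie in the frame, so the normaliser of `C(J)` normalises `J`.
-/

set_option autoImplicit false
set_option linter.unusedSectionVars false

open Subgroup

namespace Cfsg.Agent.U62Three.D

open K

variable {G : Type*} [Group G] [Finite G] {z : G} {Q : Subgroup G}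

theorem conj_pow_of {a l x : G} (hal : Commute a l) (h : a * x * a⁻¹ = l * x) :
    ∀ c : ℕ, a ^ c * x * (a ^ c)⁻¹ = l ^ c * x
  | 0 => by simp
  | c + 1 => by
    calc a ^ (c + 1) * x * (a ^ (c + 1))⁻¹ = a * (a ^ c * x * (a ^ c)⁻¹) * a⁻¹ := by
          rw [pow_succ']; group
      _ = (a * l ^ c * a⁻¹) * (a * x * a⁻¹) := by rw [conj_pow_of hal h c]; group
      _ = l ^ (c + 1) * x := by
        rw [(hal.pow_right c).eq, mul_inv_cancel_right, h, ← mul_assoc, ← pow_succ]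

theorem exists_solve (a b : ℤ) (hb : ¬ (3 : ℤ) ∣ b) : ∃ c : ℕ, c < 3 ∧ (3 : ℤ) ∣ a + b * c := by
  rcases (show b % 3 = 1 ∨ b % 3 = 2 by omega) with h | h <;>
    rcases (show a % 3 = 0 ∨ a % 3 = 1 ∨ a % 3 = 2 by omega) with h' | h' | h'
  all_goals first
    | exact ⟨0, by norm_num, by push_cast; omega⟩
    | exact ⟨1, by norm_num, by push_cast; omega⟩
    | exact ⟨2, by norm_num, by push_cast; omega⟩

theorem zpow_dvd_three {y : G} (hy : y ^ 3 = 1) {k : ℤ} (hk : (3 : ℤ) ∣ k) : y ^ k = 1 := by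
  obtain ⟨m, rfl⟩ := hk
  rw [zpow_mul, zpow_ofNat, hy, one_zpow]

theorem pow_three_sub {y : G} (hy : y ^ 3 = 1) {e : ℕ} (he : e ≤ 3) : y ^ e * y ^ (3 - e) = 1 := by
  rw [← pow_add, Nat.add_sub_cancel' he, hy]

variable (hH : Hyp z Q) (D : Facts z Q)

/-- The point `e₀ + e₁ + e₃`. -/
def y0 : G := D.F.j 0 3 * D.F.j 1 3

theorem y0_J : y0 D ∈ D.F.J := mul_mem (j_mem D.F _ _) (j_mem D.F _ _)

theorem y0_cube : y0 D ^ 3 = 1 := by rw [pow_succ, pow_two]; exact J_cube (y0_J D)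

theorem y0_conj : ∃ n : G, n * z * n⁻¹ = y0 D := by
  obtain ⟨n, -, hn⟩ := D.F.perm (Equiv.swap 1 3 * Equiv.swap 2 3)
  refine ⟨n, ?_⟩
  conv_lhs => arg 1; arg 2; rw [D.F.hz]
  rw [← conj_mul, hn, hn]
  rfl

include hH

theorem cz_commute {k : G} (hk : k ∈ zpowers z) {x : G} (hx : x ∈ Q) : Commute k x := by
  obtain ⟨n, rfl⟩ := mem_zpowers_iff.1 hk
  exact (z_comm_Q hH hx).zpow_left n

/-- What centralises `e₀ + e₁ + e₃` modulo the centre lies in the frame. -/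
theorem comm_y0_mem {x : G} (hx : x ∈ Q) (h : y0 D * x * (y0 D)⁻¹ * x⁻¹ ∈ zpowers z) : x ∈ D.F.J := by
  have hk : x * y0 D * x⁻¹ * (y0 D)⁻¹ ∈ zpowers z := by
    have := inv_mem h
    rwa [show (y0 D * x * (y0 D)⁻¹ * x⁻¹)⁻¹ = x * y0 D * x⁻¹ * (y0 D)⁻¹ by group] at this
  have hv : el D.F (vd 0 3 + vd 1 3) = y0 D := by rw [← el_mul, el_vd, el_vd]; rfl
  have hz : z = el D.F (vd 0 1 + vd 2 1) := by rw [← el_mul, el_vd, el_vd]; exact D.F.hz
  obtain ⟨n, hn⟩ := y0_conj D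
  have hconj : x * n * z * (x * n)⁻¹ = x * y0 D * x⁻¹ := by rw [← hn]; group
  have not_pt : ∀ v : V6, wsum v = 0 → (∀ a b c : Fin 6, a ≠ b → c ≠ b → a ≠ c →
      wsum (vd a b + vd c b) = 0 ∧ ¬ Same (vd a b + vd c b) v) → x * y0 D * x⁻¹ ≠ el D.F v := by
    intro v hv hno e
    obtain ⟨σ, hσ⟩ := D.points (x * n) (by rw [hconj, e]; exact el_mem D.F v)
    obtain ⟨h1, h2⟩ := hno (σ 0) (σ 1) (σ 2) (σ.injective.ne (by decide)) (σ.injective.ne (by decide))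
      (σ.injective.ne (by decide))
    rw [hconj, e, ← el_vd, ← el_vd, el_mul] at hσ
    exact h2 ((el_eq_iff D.F h1 hv).1 hσ.symm)
  have e1 : x * y0 D * x⁻¹ = x * y0 D * x⁻¹ * (y0 D)⁻¹ * y0 D := (inv_mul_cancel_right _ _).symm
  rcases zpow_cases hH hk with e | e | e
  · refine D.centQ x hx ?_
    rw [commute_iff_eq]
    exact (mul_inv_eq_iff_eq_mul.1 (mul_inv_eq_one.1 e))
  · refine absurd ?_ (not_pt (vd 0 1 + vd 2 1 + (vd 0 3 + vd 1 3)) (by decide +kernel) (by decide +kernel))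
    rw [e1, e, ← el_mul, hv, ← hz]
  · refine absurd ?_ (not_pt (vd 0 1 + vd 2 1 + (vd 0 1 + vd 2 1) + (vd 0 3 + vd 1 3)) (by decide +kernel)
      (by decide +kernel))
    rw [e1, e, ← el_mul, ← el_mul, hv, ← hz, pow_two]

/-- `e₀ + e₁ + e₃` moves each block. -/
theorem y0_moves (i : Fin 2) : ∃ x ∈ D.Qi i, y0 D * x * (y0 D)⁻¹ * x⁻¹ ∉ zpowers z := by
  by_contra h
  push Not at h
  obtain ⟨x, hx, hxz⟩ := block_ne D i
  exact hxz (D.centre i x hx fun y hy => frame_commute (comm_y0_mem hH D (D.le i hx) (h x hx))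
    (comm_y0_mem hH D (D.le i hy) (h y hy)))

omit hH in
/-- The line of the frame in a block. -/
def ln : Fin 2 → G := ![D.F.j 0 1, D.F.j 3 4]

omit hH in
theorem ln_mem : ∀ i, ln D i ∈ D.Qi i
  | 0 => D.j_zero.1
  | 1 => D.j_one.1

omit hH in
theorem ln_J : ∀ i, ln D i ∈ D.F.J
  | 0 => j_mem D.F _ _
  | 1 => j_mem D.F _ _

theorem ln_not_z : ∀ i, ln D i ∉ zpowers z
  | 0 => j_not_z D hH 0 1 (by decide)
  | 1 => j_not_z D hH 3 4 (by decide)

omit hH in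
theorem cj_cz {w : G} (hw : w ∈ centralizer (D.F.J : Set G)) : w ∈ centralizer ({z} : Set G) :=
  mem_centralizer_singleton_iff.2 (mem_centralizer_iff.1 hw z (zpow_z_J D (mem_zpowers z))).symm

omit hH in
theorem cj_fix {w x : G} (hw : w ∈ centralizer (D.F.J : Set G)) (hx : x ∈ D.F.J) : w * x * w⁻¹ = x := by
  rw [← mem_centralizer_iff.1 hw x hx, mul_inv_cancel_right]

theorem block_fix {w : G} (hw : w ∈ centralizer (D.F.J : Set G)) {i : Fin 2} {x : G} (hx : x ∈ D.Qi i) :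
    w * x * w⁻¹ ∈ D.Qi i := by
  obtain ⟨k, hk⟩ := D.perm w (cj_cz D hw) i
  rcases eq_or_ne k i with rfl | hki
  · exact (hk x).1 hx
  exfalso
  have h := (hk _).1 (ln_mem D i)
  rw [cj_fix D hw (ln_J D i)] at h
  exact ln_not_z hH D i (D.centre k _ h fun y hy => D.comm i k (Ne.symm hki) _ (ln_mem D i) y hy)

/-- An element of `C(J)` moves a block into the frame. -/
theorem delta_mem {w : G} (hw : w ∈ centralizer (D.F.J : Set G)) {i : Fin 2} {x : G} (hx : x ∈ D.Qi i) :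
    w * x * w⁻¹ * x⁻¹ ∈ zpowers z ⊔ zpowers (ln D i) := by
  set j := ln D i
  set x' := w * x * w⁻¹
  have hx' : x' ∈ D.Qi i := block_fix hH D hw hx
  set c := j * x * j⁻¹ * x⁻¹
  have hc : c ∈ zpowers z := comm_mem_z hH (D.le i (ln_mem D i)) (D.le i hx)
  have hc' : j * x' * j⁻¹ * x'⁻¹ = c := by
    have e1 : w * c * w⁻¹ = (w * j * w⁻¹) * x' * (w * j * w⁻¹)⁻¹ * x'⁻¹ := by
      simp only [c, x']; group
    rw [cj_fix D hw (zpow_z_J D hc), cj_fix D hw (ln_J D i)] at e1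
    exact e1.symm
  refine cent_in_block D hH (ln_mem D i) (ln_not_z hH D i) (mul_mem hx' (inv_mem hx)) ?_
  have e : j * (x' * x⁻¹) * j⁻¹ = x' * x⁻¹ := by
    calc j * (x' * x⁻¹) * j⁻¹ = (j * x' * j⁻¹ * x'⁻¹) * (x' * x⁻¹) * (j * x * j⁻¹ * x⁻¹)⁻¹ := by group
      _ = x' * x⁻¹ := by
        rw [hc', (cz_commute hH hc (mul_mem (D.le i hx') (inv_mem (D.le i hx)))).eq, mul_inv_cancel_right]
  exact mul_inv_eq_iff_eq_mul.1 e

theorem line_split {i : Fin 2} {y : G} (hy : y ∈ zpowers z ⊔ zpowers (ln D i)) :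
    ∃ a b : ℤ, y = z ^ a * ln D i ^ b := by
  have hn : zpowers (ln D i) ≤ normalizer (zpowers z : Set G) := by
    refine zpowers_le.2 (centralizer_le_normalizer _ (mem_centralizer_iff.2 fun u hu => ?_))
    exact (cz_commute hH hu (D.le i (ln_mem D i))).eq
  have hy' : y ∈ (↑(zpowers z ⊔ zpowers (ln D i)) : Set G) := hy
  rw [coe_mul_of_right_le_normalizer_left _ _ hn] at hy'
  obtain ⟨u, hu, v, hv, rfl⟩ := hy'
  obtain ⟨a, rfl⟩ := mem_zpowers_iff.1 hu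
  obtain ⟨b, rfl⟩ := mem_zpowers_iff.1 hv
  exact ⟨a, b, rfl⟩

omit hH in
/-- Trivial on the block modulo the centre. -/
def Triv (i : Fin 2) (w : G) : Prop := ∀ x ∈ D.Qi i, w * x * w⁻¹ * x⁻¹ ∈ zpowers z

/-- An element of `C(J)` fixing a block element outside the frame modulo the centre is trivial on the block. -/
theorem triv_of {w : G} (hw : w ∈ centralizer (D.F.J : Set G)) {i : Fin 2} {x₀ : G} (hx₀ : x₀ ∈ D.Qi i)
    (hJ : x₀ ∉ D.F.J) (h : w * x₀ * w⁻¹ * x₀⁻¹ ∈ zpowers z) : Triv D i w := by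
  intro x hx
  set j := ln D i
  have hjQ := D.le i (ln_mem D i)
  have hz3 := z_cube hH
  obtain ⟨a, ha⟩ := mem_zpowers_iff.1 (comm_mem_z hH hjQ (D.le i hx))
  obtain ⟨b, hb⟩ := mem_zpowers_iff.1 (comm_mem_z hH hjQ (D.le i hx₀))
  obtain ⟨k, hk⟩ := mem_zpowers_iff.1 h
  have hcomm : ∀ {y}, y ∈ D.Qi i → Commute j y → y ∈ D.F.J := fun {y} hy hc =>
    sup_le (zpow_z_J D) (zpowers_le.2 (ln_J D i)) (cent_in_block D hH (ln_mem D i) (ln_not_z hH D i) hy hc)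
  have hb3 : ¬ (3 : ℤ) ∣ b := fun hd => hJ (hcomm hx₀ (by
    rw [zpow_dvd_three hz3 hd] at hb
    exact mul_inv_eq_iff_eq_mul.1 (mul_inv_eq_one.1 hb.symm)))
  obtain ⟨c, -, hc⟩ := exists_solve a b hb3
  have hu : w * x₀ ^ c * w⁻¹ = z ^ (k * c) * x₀ ^ c := by
    rw [← conj_pow, show w * x₀ * w⁻¹ = z ^ k * x₀ by rw [hk]; group,
      (cz_commute hH (zpow_mem_zpowers z k) (D.le i hx₀)).mul_pow, ← zpow_natCast (z ^ k), ← zpow_mul]
  have hju : j * x₀ ^ c * j⁻¹ = z ^ (b * c) * x₀ ^ c := by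
    rw [← conj_pow, show j * x₀ * j⁻¹ = z ^ b * x₀ by rw [hb]; simp only [j]; group,
      (cz_commute hH (zpow_mem_zpowers z b) (D.le i hx₀)).mul_pow, ← zpow_natCast (z ^ b), ← zpow_mul]
  set u := x₀ ^ c
  have hx'm : x * u ∈ D.Qi i := mul_mem hx (pow_mem hx₀ c)
  have hx'J : x * u ∈ D.F.J := hcomm hx'm (by
    refine mul_inv_eq_iff_eq_mul.1 ?_
    rw [← conj_mul, hju, show j * x * j⁻¹ = z ^ a * x by rw [ha]; simp only [j]; group, mul_assoc, ← mul_assoc x,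
      ← (cz_commute hH (zpow_mem_zpowers z (b * c)) (D.le i hx)).eq, ← mul_assoc, ← mul_assoc, ← zpow_add,
      zpow_dvd_three hz3 hc, one_mul])
  have e : w * x * w⁻¹ * x⁻¹ = (x * u) * ((w * u * w⁻¹)⁻¹ * u) * (x * u)⁻¹ := by
    conv_lhs => rw [show w * x * w⁻¹ * x⁻¹ = (w * (x * u) * w⁻¹) * (w * u * w⁻¹)⁻¹ * x⁻¹ by group,
      cj_fix D hw hx'J]
    group
  have hm : (z ^ (k * c))⁻¹ ∈ zpowers z := inv_mem (zpow_mem_zpowers z _)
  rw [e, hu, mul_inv_rev, ← (cz_commute hH hm (inv_mem (pow_mem (D.le i hx₀) c))).eq, inv_mul_cancel_right]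
  rw [← (cz_commute hH hm (D.le i hx'm)).eq, mul_inv_cancel_right]
  exact hm

/-- On each block some translate by `e₀ + e₁ + e₃` is trivial. -/
theorem exists_triv {w : G} (hw : w ∈ centralizer (D.F.J : Set G)) (i : Fin 2) :
    ∃ c : ℕ, c < 3 ∧ Triv D i (w * y0 D ^ c) := by
  obtain ⟨x₀, hx₀, hy⟩ := y0_moves hH D i
  have hyC : y0 D ∈ centralizer (D.F.J : Set G) :=
    mem_centralizer_iff.2 fun u hu => (frame_commute hu (y0_J D)).eq
  obtain ⟨a, b, hab⟩ := line_split hH D (delta_mem hH D hyC hx₀)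
  obtain ⟨a', b', hab'⟩ := line_split hH D (delta_mem hH D hw hx₀)
  have hj3 : ln D i ^ 3 = 1 := by rw [pow_succ, pow_two]; exact J_cube (ln_J D i)
  have hb : ¬ (3 : ℤ) ∣ b := fun hd => hy (by
    rw [hab, zpow_dvd_three hj3 hd, mul_one]; exact zpow_mem_zpowers z a)
  obtain ⟨c, hc3, hc⟩ := exists_solve b' b hb
  have hJ : x₀ ∉ D.F.J := fun h => hy (by
    rw [cj_fix D hyC h, mul_inv_cancel]; exact one_mem _)
  refine ⟨c, hc3, triv_of hH D (mul_mem hw (pow_mem hyC c)) hx₀ hJ ?_⟩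
  set l := y0 D * x₀ * (y0 D)⁻¹ * x₀⁻¹
  have hlJ : l ∈ D.F.J := by
    rw [hab]; exact mul_mem (zpow_z_J D (zpow_mem_zpowers z a)) (zpow_mem (ln_J D i) b)
  have h1 := conj_pow_of (frame_commute (y0_J D) hlJ) (show y0 D * x₀ * (y0 D)⁻¹ = l * x₀ by
    simp only [l]; group) c
  have e : w * y0 D ^ c * x₀ * (w * y0 D ^ c)⁻¹ * x₀⁻¹ = l ^ c * (w * x₀ * w⁻¹ * x₀⁻¹) := by
    calc w * y0 D ^ c * x₀ * (w * y0 D ^ c)⁻¹ * x₀⁻¹
        = w * (y0 D ^ c * x₀ * (y0 D ^ c)⁻¹) * w⁻¹ * x₀⁻¹ := by group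
      _ = (w * l ^ c * w⁻¹) * (w * x₀ * w⁻¹ * x₀⁻¹) := by rw [h1]; group
      _ = _ := by rw [cj_fix D hw (pow_mem hlJ c)]
  have hcz : Commute z (ln D i) := z_comm_Q hH (D.le i (ln_mem D i))
  rw [e, hab', hab, (hcz.zpow_zpow a b).mul_pow, ← zpow_natCast, ← zpow_natCast, ← zpow_mul, ← zpow_mul,
    mul_assoc, ← mul_assoc (ln D i ^ (b * c)), ← ((hcz.zpow_zpow a' (b * c))).eq, mul_assoc, ← zpow_add,
    ← mul_assoc, ← zpow_add, show b * c + b' = b' + b * c by ring, zpow_dvd_three hj3 hc, mul_one]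
  exact zpow_mem_zpowers z _

/-- Trivial on both blocks means inside the frame. -/
theorem triv_both {w : G} (hw : w ∈ centralizer (D.F.J : Set G)) (h : ∀ i, Triv D i w) : w ∈ D.F.J := by
  have hQ : w ∈ Q := by
    refine D.kernel w (cj_cz D hw) fun x hx => ?_
    obtain ⟨a, ha, b, hb, rfl⟩ := Q_split D hx
    rw [show w * (a * b) * w⁻¹ * (a * b)⁻¹ =
      (w * a * w⁻¹ * a⁻¹) * (a * (w * b * w⁻¹ * b⁻¹) * a⁻¹) by group,
      ← (cz_commute hH (h 1 b hb) (D.le 0 ha)).eq, mul_inv_cancel_right]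
    exact mul_mem (h 0 a ha) (h 1 b hb)
  exact D.centQ w hQ (mem_centralizer_iff.1 hw _ (y0_J D)).symm

/-- A conjugate of `z` in `C(z)` outside `⟨z⟩` moves both blocks. -/
theorem conj_not_triv {g : G} (hc : g * z * g⁻¹ ∈ centralizer ({z} : Set G))
    (hn : g * z * g⁻¹ ∉ zpowers z) (i : Fin 2) : ¬ Triv D i (g * z * g⁻¹) := by
  intro ht
  set w := g * z * g⁻¹
  obtain ⟨h, hh, he⟩ := D.moved g ⟨hc, hn⟩
  obtain ⟨k, hk⟩ := D.perm h hh i
  have hhz : ∀ {u}, u ∈ zpowers z → h * u * h⁻¹ = u := fun {u} hu => by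
    obtain ⟨n, rfl⟩ := mem_zpowers_iff.1 hu
    have hhz : Commute h z := mem_centralizer_singleton_iff.1 hh
    rw [(hhz.zpow_right n).eq, mul_inv_cancel_right]
  have htk : ∀ y ∈ D.Qi k, h * w * h⁻¹ * y * (h * w * h⁻¹)⁻¹ * y⁻¹ ∈ zpowers z := by
    intro y hy
    have hx : h⁻¹ * y * h ∈ D.Qi i := (hk _).2 (by rwa [show h * (h⁻¹ * y * h) * h⁻¹ = y by group])
    have hm := ht _ hx
    rw [show h * w * h⁻¹ * y * (h * w * h⁻¹)⁻¹ * y⁻¹ =
      h * (w * (h⁻¹ * y * h) * w⁻¹ * (h⁻¹ * y * h)⁻¹) * h⁻¹ by group, hhz hm]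
    exact hm
  obtain ⟨x, hx, hxn⟩ := y0_moves hH D k
  refine hxn ?_
  rcases he with e | e
  · have := htk x hx
    rwa [e] at this
  · have h1 := htk x hx
    rw [e, inv_inv] at h1
    change (y0 D)⁻¹ * x * y0 D * x⁻¹ ∈ zpowers z at h1
    have h2 : y0 D * ((y0 D)⁻¹ * x * y0 D * x⁻¹)⁻¹ * (y0 D)⁻¹ =
        y0 D * x * (y0 D)⁻¹ * x⁻¹ := by group
    rw [← h2, (frame_commute (y0_J D) (zpow_z_J D (inv_mem h1))).eq, mul_inv_cancel_right]
    exact inv_mem h1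

omit hH in
theorem j_in_zero : ∀ a b : Fin 6, a < 3 → b < 3 → D.F.j a b ∈ Q := by
  have h : ∀ b : Fin 6, b < 3 → D.F.j 0 b ∈ Q := by
    intro b hb
    fin_cases b <;> simp at hb ⊢
    · rw [j_self]; exact one_mem _
    · exact D.le 0 D.j_zero.1
    · rw [← D.F.cocycle 0 1 2]; exact mul_mem (D.le 0 D.j_zero.1) (D.le 0 D.j_zero.2)
  intro a b ha hb
  rw [← D.F.cocycle a 0 b, ← j_symm]
  exact mul_mem (inv_mem (h a ha)) (h b hb)

omit hH in
theorem j_in_one : ∀ a b : Fin 6, 3 ≤ a → 3 ≤ b → D.F.j a b ∈ Q := by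
  have h : ∀ b : Fin 6, 3 ≤ b → D.F.j 3 b ∈ Q := by
    intro b hb
    fin_cases b <;> simp at hb ⊢
    · rw [j_self]; exact one_mem _
    · exact D.le 1 D.j_one.1
    · rw [← D.F.cocycle 3 4 5]; exact mul_mem (D.le 1 D.j_one.1) (D.le 1 D.j_one.2)
  intro a b ha hb
  rw [← D.F.cocycle a 3 b, ← j_symm]
  exact mul_mem (inv_mem (h a ha)) (h b hb)

theorem cross_not_Q {a b : Fin 6} (ha : a < 3) (hb : 3 ≤ b) : D.F.j a b ∉ Q := fun h => by
  have h03 : D.F.j 0 3 ∈ Q := by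
    rw [← D.F.cocycle 0 a 3, ← D.F.cocycle a b 3]
    exact mul_mem (j_in_zero D 0 a (by decide) ha) (mul_mem h (j_in_one D b 3 hb (by decide)))
  refine y0_not_Q D hH (mul_mem h03 ?_)
  rw [← D.F.cocycle 1 0 3]
  exact mul_mem (j_in_zero D 1 0 (by decide) (by decide)) h03

omit hH in
/-- The frame modulo `Q` is generated by `e₀ + e₁ + e₃`. -/
theorem J_mod {u : G} (hu : u ∈ D.F.J) : ∃ e < 3, u * y0 D ^ e ∈ Q := by
  obtain ⟨v, hv, rfl⟩ := el_surj D.F hu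
  have key : ∀ v : V6, wsum v = 0 →
      wsum (v + (v 0 + v 1 + v 2).val • (vd 0 3 + vd 1 3)) = 0 ∧
      ∃ a b c d : Fin 3, wsum ((a : ℕ) • vd 0 1 + (b : ℕ) • vd 1 2 + (c : ℕ) • vd 3 4 + (d : ℕ) • vd 4 5) = 0 ∧
        Same (v + (v 0 + v 1 + v 2).val • (vd 0 3 + vd 1 3))
          ((a : ℕ) • vd 0 1 + (b : ℕ) • vd 1 2 + (c : ℕ) • vd 3 4 + (d : ℕ) • vd 4 5) := by
    decide +kernel
  obtain ⟨h1, a, b, c, d, h2, hs⟩ := key v hv
  refine ⟨(v 0 + v 1 + v 2).val, ZMod.val_lt _, ?_⟩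
  rw [show y0 D = el D.F (vd 0 3 + vd 1 3) by rw [← el_mul, el_vd, el_vd]; rfl, el_pow, el_mul,
    (el_eq_iff D.F h1 h2).2 hs, ← el_mul, ← el_mul, ← el_mul, ← el_pow, ← el_pow, ← el_pow, ← el_pow,
    el_vd, el_vd, el_vd, el_vd]
  exact mul_mem (mul_mem (mul_mem (pow_mem (D.le 0 D.j_zero.1) _) (pow_mem (D.le 0 D.j_zero.2) _))
    (pow_mem (D.le 1 D.j_one.1) _)) (pow_mem (D.le 1 D.j_one.2) _)

variable (Wd : Wide D.F)

include Wd

omit hH in
theorem e_mem (a : Fin 6) : Wd.e a ∈ centralizer (D.F.J : Set G) :=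
  Wd.span ▸ subset_closure (Set.mem_range_self a)

omit hH in
theorem cj_comm {x y : G} (hx : x ∈ centralizer (D.F.J : Set G)) (hy : y ∈ centralizer (D.F.J : Set G)) :
    Commute x y := by
  have h1 : centralizer (D.F.J : Set G) ≤ centralizer (Set.range Wd.e) := by
    rw [Wd.span, closure_le]
    rintro _ ⟨a, rfl⟩
    exact mem_centralizer_iff.2 (by rintro _ ⟨b, rfl⟩; exact (Wd.comm b a).eq)
  have h2 := h1 hy
  rw [← centralizer_closure, ← Wd.span] at h2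
  exact mem_centralizer_iff.1 h2 x hx

omit hH in
/-- Outside the frame some cross transposition moves by something outside `Q`. -/
theorem exists_cross (hH : Hyp z Q) {w : G} (hw : w ∈ centralizer (D.F.J : Set G)) (hwJ : w ∉ D.F.J) :
    ∃ n : G, n * w * n⁻¹ * w⁻¹ ∈ D.F.J ∧ n * w * n⁻¹ * w⁻¹ ∉ Q ∧ n ∈ normalizer (D.F.J : Set G) := by
  classical
  let C := centralizer (D.F.J : Set G)
  let _ : CommGroup ↥C :=
    { (inferInstance : Group ↥C) with mul_comm := fun a b => Subtype.ext (cj_comm D Wd a.2 b.2).eq }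
  let γ : Fin 6 → ↥C := fun a => ⟨Wd.e a, e_mem D Wd a⟩
  have hγ : (⟨w, hw⟩ : ↥C) ∈ closure (Set.range γ) := by
    have h : w ∈ (closure (Set.range γ)).map C.subtype := by
      rw [MonoidHom.map_closure, ← Set.range_comp]
      exact Wd.span ▸ hw
    obtain ⟨w', hw', e⟩ := h
    rwa [show w' = ⟨w, hw⟩ from Subtype.ext e] at hw'
  obtain ⟨v, hv⟩ := Subgroup.exists_of_mem_closure_range γ _ hγ
  have hγ3 : ∀ a, γ a ^ 3 = 1 := fun a => Subtype.ext (Wd.cube a)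
  obtain ⟨a, ha, b, hb, hd⟩ : ∃ a : Fin 6, a < 3 ∧ ∃ b : Fin 6, 3 ≤ b ∧ ¬ (3 : ℤ) ∣ v b - v a := by
    by_contra hall
    push Not at hall
    have hz : ∀ a, (3 : ℤ) ∣ v a - v 0 := fun a => by
      have h03 := hall 0 (by decide) 3 (by decide)
      rcases lt_or_ge a 3 with h | h
      · have := hall a h 3 (by decide); omega
      · have := hall 0 (by decide) a h; omega
    apply hwJ
    have e1 : ∀ a, γ a ^ v a = γ a ^ v 0 := fun a => by
      rw [show v a = v 0 + (v a - v 0) by ring, zpow_add, zpow_dvd_three (hγ3 a) (hz a), mul_one]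
    have hm : ∀ a, γ a * (γ 0)⁻¹ ∈ D.F.J.subgroupOf C := fun a => by
      rw [mem_subgroupOf]
      show Wd.e a * (Wd.e 0)⁻¹ ∈ D.F.J
      rw [← Wd.diff]; exact j_mem D.F _ _
    have hprod : (∏ a, γ a ^ v 0) ∈ D.F.J.subgroupOf C := by
      have e2 : (∏ a, γ a ^ v 0) = ∏ a, (γ a * (γ 0)⁻¹) ^ v 0 := by
        simp only [mul_zpow, Finset.prod_mul_distrib, Finset.prod_const, Finset.card_univ, Fintype.card_fin]
        rw [show ((γ 0)⁻¹ ^ v 0) ^ 6 = 1 from ?_, mul_one]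
        rw [← zpow_natCast, ← zpow_mul, zpow_dvd_three (by rw [inv_pow, hγ3, inv_one])]
        exact Dvd.dvd.mul_left (by norm_num) _
      rw [e2]
      exact prod_mem fun a _ => zpow_mem (hm a) _
    rw [← Finset.prod_congr rfl fun a _ => e1 a, ← hv, mem_subgroupOf] at hprod
    exact hprod
  obtain ⟨n, hn, hne⟩ := Wd.perm (Equiv.swap a b)
  have hnC : ∀ y ∈ C, n * y * n⁻¹ ∈ C := fun y hy => mem_centralizer_iff.2 fun u hu => by
    have h1 : n⁻¹ * u * n ∈ D.F.J := by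
      have := (mem_normalizer_iff.1 (inv_mem hn) u).1 hu
      rwa [inv_inv] at this
    calc u * (n * y * n⁻¹) = n * ((n⁻¹ * u * n) * y) * n⁻¹ := by group
      _ = n * (y * (n⁻¹ * u * n)) * n⁻¹ := by rw [mem_centralizer_iff.1 hy _ h1]
      _ = n * y * n⁻¹ * u := by group
  let ν : ↥C →* ↥C :=
    { toFun := fun y => ⟨n * y.1 * n⁻¹, hnC y.1 y.2⟩
      map_one' := Subtype.ext (by simp)
      map_mul' := fun y w => Subtype.ext (conj_mul).symm }
  have hνγ : ∀ c, ν (γ c) = γ (Equiv.swap a b c) := fun c => Subtype.ext (hne c)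
  have hab : a ≠ b := fun e => by subst e; exact absurd (lt_of_lt_of_le ha hb) (lt_irrefl _)
  have e : n * w * n⁻¹ * w⁻¹ = D.F.j a b ^ (v b - v a) := by
    have h1 : ν ⟨w, hw⟩ = ∏ c, γ c ^ v (Equiv.swap a b c) := by
      rw [hv, map_prod, ← Equiv.prod_comp (Equiv.swap a b)]
      refine Finset.prod_congr rfl fun c _ => ?_
      rw [map_zpow, hνγ, Equiv.swap_apply_self]
    have h2 : n * w * n⁻¹ = C.subtype (∏ c, γ c ^ v (Equiv.swap a b c)) := congrArg C.subtype h1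
    have h3 : (∏ c, γ c ^ v (Equiv.swap a b c)) * (⟨w, hw⟩ : ↥C)⁻¹ = (γ a * (γ b)⁻¹) ^ (v b - v a) := by
      rw [hv, ← Finset.prod_inv_distrib, ← Finset.prod_mul_distrib]
      simp only [← zpow_neg, ← zpow_add]
      rw [Fintype.prod_eq_mul a b hab (fun c hc => by
        rw [Equiv.swap_apply_of_ne_of_ne hc.1 hc.2, add_neg_cancel, zpow_zero]),
        Equiv.swap_apply_left, Equiv.swap_apply_right, mul_zpow, inv_zpow, ← zpow_neg]
      (congr 2; ring)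
    have h4 := congrArg C.subtype h3
    rw [map_mul, map_inv, ← h2, map_zpow] at h4
    rw [Wd.diff]
    exact h4
  refine ⟨n, e ▸ zpow_mem (j_mem D.F _ _) _, fun hq => ?_, hn⟩
  rw [e] at hq
  refine cross_not_Q hH D ha hb ?_
  have h3 : D.F.j a b ^ 3 = 1 := by rw [pow_succ, pow_two]; exact D.F.cube a b
  obtain ⟨c, -, hc⟩ := exists_solve (-1) (v b - v a) hd
  have : D.F.j a b = (D.F.j a b ^ (v b - v a)) ^ c := by
    rw [← zpow_natCast, ← zpow_mul, show (v b - v a) * c = 1 + (-1 + (v b - v a) * c) by ring, zpow_add,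
      zpow_dvd_three h3 hc, mul_one, zpow_one]
  rw [this]
  exact pow_mem hq c

/-- The conjugates of `z` in `C(J)` lie in `J`. -/
theorem conj_in_J {g : G} (hg : g * z * g⁻¹ ∈ centralizer (D.F.J : Set G)) : g * z * g⁻¹ ∈ D.F.J := by
  by_contra hwJ
  set w := g * z * g⁻¹ with hw
  obtain ⟨n, huJ, huQ, hn⟩ := exists_cross D Wd hH hg hwJ
  have hyC : y0 D ∈ centralizer (D.F.J : Set G) :=
    mem_centralizer_iff.2 fun u hu => (frame_commute hu (y0_J D)).eq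
  obtain ⟨c₀, hc₀, h₀⟩ := exists_triv hH D hg 0
  obtain ⟨c₁, hc₁, h₁⟩ := exists_triv hH D hg 1
  have hnz : w ∉ zpowers z := fun h => hwJ (zpow_z_J D h)
  have hcz := cj_cz D hg
  have h0 : c₀ ≠ 0 := fun e => conj_not_triv hH D hcz hnz 0 (by simpa [e] using h₀)
  have h1 : c₁ ≠ 0 := fun e => conj_not_triv hH D hcz hnz 1 (by simpa [e] using h₁)
  have hne : c₀ ≠ c₁ := fun e => hwJ (by
    have hm := triv_both hH D (mul_mem hg (pow_mem hyC c₀))
      (Fin.forall_fin_two.2 ⟨h₀, e ▸ h₁⟩)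
    have := mul_mem hm (inv_mem (pow_mem (y0_J D) c₀))
    rwa [mul_inv_cancel_right] at this)
  obtain ⟨e, he, hq⟩ := J_mod D huJ
  have he0 : e ≠ 0 := fun h => huQ (by simpa [h] using hq)
  obtain ⟨i, hi⟩ : ∃ i, Triv D i (w * y0 D ^ (3 - e)) := by
    rcases (show 3 - e = c₀ ∨ 3 - e = c₁ by omega) with h | h
    · exact ⟨0, h ▸ h₀⟩
    · exact ⟨1, h ▸ h₁⟩
  set u := n * w * n⁻¹ * w⁻¹ with hu
  set q := u * y0 D ^ e
  have hw' : n * g * z * (n * g)⁻¹ = q * (w * y0 D ^ (3 - e)) := by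
    have hwy : w * y0 D ^ (3 - e) = y0 D ^ (3 - e) * w :=
      (cj_comm D Wd hg (pow_mem hyC _)).eq
    rw [hwy, show q * (y0 D ^ (3 - e) * w) = u * (y0 D ^ e * y0 D ^ (3 - e)) * w by simp only [q]; group,
      pow_three_sub (y0_cube D) he.le, mul_one, hu, hw]
    group
  have hqC : q ∈ centralizer (D.F.J : Set G) :=
    mem_centralizer_iff.2 fun x hx => (frame_commute hx (mul_mem huJ (pow_mem (y0_J D) e))).eq
  have hw'C : n * g * z * (n * g)⁻¹ ∈ centralizer (D.F.J : Set G) :=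
    hw' ▸ mul_mem hqC (mul_mem hg (pow_mem hyC _))
  have hw'J : n * g * z * (n * g)⁻¹ ∉ D.F.J := fun h => hwJ (by
    rw [show n * g * z * (n * g)⁻¹ = n * w * n⁻¹ by rw [hw]; group] at h
    exact (mem_normalizer_iff.1 hn w).2 h)
  refine conj_not_triv hH D (cj_cz D hw'C) (fun h => hw'J (zpow_z_J D h)) i ?_
  rw [hw']
  intro x hx
  set v := w * y0 D ^ (3 - e)
  have hvx := hi x hx
  rw [show q * v * x * (q * v)⁻¹ * x⁻¹ = q * (v * x * v⁻¹ * x⁻¹) * q⁻¹ * (q * x * q⁻¹ * x⁻¹) by group,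
    ← (cz_commute hH hvx hq).eq, mul_inv_cancel_right]
  exact mul_mem hvx (comm_mem_z hH hq (D.le i hx))

/-- The normaliser of `C(J)` normalises `J`. -/
theorem normalizer_cj_le :
    normalizer (centralizer (D.F.J : Set G) : Set G) ≤ normalizer (D.F.J : Set G) := by
  intro x hx
  refine Subgroup.mem_normalizer_fintype fun m hm => ?_
  have hpt : ∀ g : G, g * z * g⁻¹ ∈ D.F.J → x * (g * z * g⁻¹) * x⁻¹ ∈ D.F.J := fun g hg => by
    have h1 : g * z * g⁻¹ ∈ centralizer (D.F.J : Set G) :=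
      mem_centralizer_iff.2 fun u hu => (frame_commute hu hg).eq
    have h2 := (mem_normalizer_iff.1 hx _).1 h1
    rw [show x * (g * z * g⁻¹) * x⁻¹ = x * g * z * (x * g)⁻¹ by group] at h2 ⊢
    exact conj_in_J hH D Wd h2
  have hle : D.F.J ≤ D.F.J.comap (MulAut.conj x).toMonoidHom := by
    conv_lhs => rw [D.F.span]
    rw [closure_le]
    rintro _ ⟨⟨a, b⟩, rfl⟩
    show x * D.F.j a b * x⁻¹ ∈ D.F.J
    by_cases hab : a = b
    · subst hab; rw [j_self, mul_one, mul_inv_cancel]; exact one_mem _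
    obtain ⟨σ, hσ2, hσ3⟩ : ∃ σ : Equiv.Perm (Fin 6), σ 2 = a ∧ σ 3 = b := by
      revert hab; revert a b; decide +kernel
    obtain ⟨m, hmn, hmj⟩ := D.F.perm σ
    obtain ⟨n, hnn, hnj⟩ := D.F.perm (Equiv.swap 2 3)
    have e23 : z * (n * z * n⁻¹)⁻¹ = D.F.j 2 3 := by
      conv_lhs => rw [D.F.hz]
      rw [← conj_mul, hnj, hnj, Equiv.swap_apply_left, Equiv.swap_apply_of_ne_of_ne (by decide) (by decide),
        Equiv.swap_apply_of_ne_of_ne (by decide) (by decide), ← el_vd, ← el_vd, ← el_vd, ← el_vd, el_mul, el_mul, el_inv, el_mul]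
      exact (el_eq_iff D.F (by decide +kernel) (by decide +kernel)).2 (by decide +kernel)
    have hzJ := zpow_z_J D (mem_zpowers z)
    have h1 : m * z * m⁻¹ ∈ D.F.J := (mem_normalizer_iff.1 hmn z).1 hzJ
    have h2 : m * n * z * (m * n)⁻¹ ∈ D.F.J :=
      (mem_normalizer_iff.1 (mul_mem hmn hnn) z).1 hzJ
    rw [← hσ2, ← hσ3, ← hmj, ← e23,
      show x * (m * (z * (n * z * n⁻¹)⁻¹) * m⁻¹) * x⁻¹ =
        (x * (m * z * m⁻¹) * x⁻¹) * (x * (m * n * z * (m * n)⁻¹) * x⁻¹)⁻¹ by group]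
    exact mul_mem (hpt m h1) (inv_mem (hpt (m * n) h2))
  exact hle hm

end Cfsg.Agent.U62Three.D
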