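import Cfsg.Agent.U62Three.D.Basic

/-!
# PSU₆(2) from a centraliser of order three: the hypotheses in a normal subgroup
-/

set_option autoImplicit false

open Subgroup

namespace Cfsg.Agent.U62Three.D

variable {G : Type*} [Group G] [Finite G] {z : G} {Q : Subgroup G}

omit [Finite G] in
theorem mem_cent_sub {N : Subgroup G} {a : G} (ha : a ∈ N) {x : ↥N} :
    x ∈ centralizer ({(⟨a, ha⟩ : ↥N)} : Set ↥N) ↔ (x : G) ∈ centralizer ({a} : Set G) := by
  rw [mem_centralizer_singleton_iff, mem_centralizer_singleton_iff, Subtype.ext_iff]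
  rfl

/-- The hypotheses hold in a normal subgroup containing `Q` and the quaternion part whose cosets are
represented in `C(z)`. -/
theorem hyp_sub (hH : Hyp z Q) {N : Subgroup G} (hQ : Q ≤ N)
    (hP : ∀ P : Subgroup G, P ≤ centralizer ({z} : Set G) →
      Nonempty (↥P ≃* QuaternionGroup 2 × QuaternionGroup 2) →
      centralizer ({z} : Set G) ≤ normalizer ((Q ⊔ P : Subgroup G) : Set G) → P ≤ N)
    (hcos : ∀ g : G, ∃ c ∈ centralizer ({z} : Set G), g * c ∈ N) :
    Hyp (⟨z, hQ (z_mem hH)⟩ : ↥N) (Q.subgroupOf N) := by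
  obtain ⟨P, hPc, hPe, hPn⟩ := hH.quat
  have hPN := hP P hPc hPe hPn
  refine ⟨?_, LargeExtra.extraspecial_congr (subgroupOfEquivOfLe hQ).symm hH.ext, ?_,
    fun x hx => (mem_cent_sub _).2 (hH.le hx), ?_, fun x hx => ?_, fun x hx => ?_,
    ⟨P.subgroupOf N, fun x hx => (mem_cent_sub _).2 (hPc hx),
      hPe.map (subgroupOfEquivOfLe hPN).trans, fun x hx => ?_⟩, fun g hg => ?_, ?_⟩
  · rw [← hH.oz]; exact orderOf_mk _ _
  · rw [Nat.card_congr (subgroupOfEquivOfLe hQ).toEquiv, hH.card]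
  · ext x
    constructor
    · rintro ⟨q, hq, rfl⟩
      have h1 : ((q : ↥N) : G) ∈ zpowers z := by
        rw [← hH.centre]
        exact ⟨⟨_, mem_subgroupOf.1 q.2⟩, mem_center_iff.2 fun y => Subtype.ext
          (congrArg (fun w : ↥(Q.subgroupOf N) => ((w : ↥N) : G))
            (mem_center_iff.1 hq ⟨⟨y, hQ y.2⟩, y.2⟩)), rfl⟩
      obtain ⟨k, hk⟩ := mem_zpowers_iff.1 h1
      exact mem_zpowers_iff.2 ⟨k, Subtype.ext hk⟩
    · intro hx
      obtain ⟨k, rfl⟩ := mem_zpowers_iff.1 hx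
      have h1 : z ^ k ∈ (center ↥Q).map Q.subtype := hH.centre.symm ▸ zpow_mem_zpowers z k
      obtain ⟨q, hq, hqe⟩ := h1
      refine ⟨⟨_, mem_subgroupOf.2 (zpow_mem (z_mem hH) k)⟩,
        mem_center_iff.2 fun y => Subtype.ext (Subtype.ext ?_), rfl⟩
      have e := congrArg Subtype.val (mem_center_iff.1 hq ⟨_, mem_subgroupOf.1 y.2⟩)
      change ((y : ↥N) : G) * z ^ k = z ^ k * ((y : ↥N) : G)
      rw [← hqe]
      exact e
  · exact mem_normalizer_iff.2 fun y => by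
      simp only [mem_subgroupOf, coe_mul, coe_inv]
      exact mem_normalizer_iff.1 (hH.normal ((mem_cent_sub _).1 hx)) _
  · rw [mem_subgroupOf]
    refine hH.self (mem_centralizer_iff.2 fun q hq => ?_)
    exact congrArg Subtype.val (mem_centralizer_iff.1 hx ⟨q, hQ hq⟩ (mem_subgroupOf.2 hq))
  · refine mem_normalizer_iff.2 fun y => ?_
    rw [show Q.subgroupOf N ⊔ P.subgroupOf N = (Q ⊔ P).subgroupOf N from (subgroupOf_sup hQ hPN).symm]
    simp only [mem_subgroupOf, coe_mul, coe_inv]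
    exact mem_normalizer_iff.1 (hPn ((mem_cent_sub _).1 hx)) _
  · rw [mem_subgroupOf] at hg
    obtain ⟨k, hk⟩ := mem_zpowers_iff.1 (hH.weak g hg)
    exact mem_zpowers_iff.2 ⟨k, Subtype.ext hk⟩
  · obtain ⟨g, hg, hgQ⟩ := hH.moved
    obtain ⟨c, hc, hgc⟩ := hcos g
    have e : g * c * z * (g * c)⁻¹ = g * z * g⁻¹ := by
      calc g * c * z * (g * c)⁻¹ = g * (c * z * c⁻¹) * g⁻¹ := by group
        _ = _ := by rw [mem_centralizer_singleton_iff.1 hc, mul_inv_cancel_right]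
    refine ⟨⟨g * c, hgc⟩, (mem_cent_sub _).2 ?_, fun h => hgQ ?_⟩
    · show g * c * z * (g * c)⁻¹ ∈ _
      rw [e]; exact hg
    · have h' : g * c * z * (g * c)⁻¹ ∈ Q := mem_subgroupOf.1 h
      rwa [e] at h'

end Cfsg.Agent.U62Three.D
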