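import Mathlib.GroupTheory.Transfer
import Mathlib.GroupTheory.PGroup

/-!
# The transfer at an element of order `p` with one value on the fixed cosets

If `g` of order dividing `p` lies in an abelian `p`-subgroup `W` and the value of `φ` at the conjugates of `g`
is `v` wherever `W` fixes the coset, then the transfer of `g` is `v` to the index.
-/

set_option autoImplicit false

open Subgroup MulAction

namespace Cfsg.Agent.U62Three.D

open scoped Classical in
theorem transfer_fixed {G : Type*} [Group G] [Finite G] {A : Type*} [CommGroup A] {p : ℕ} [Fact p.Prime]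
    (hA : ∀ a : A, a ^ p = 1) (S W : Subgroup G) (φ : ↥S →* A) (hWp : IsPGroup p ↥W) {g : G} (hgW : g ∈ W)
    (hgp : g ^ p = 1) (hWc : ∀ w ∈ W, Commute g w) {v : A}
    (hv : ∀ x : G, (∀ w ∈ W, x⁻¹ * w * x ∈ S) → ∀ h : x⁻¹ * g * x ∈ S, φ ⟨x⁻¹ * g * x, h⟩ = v) :
    MonoidHom.transfer φ g = v ^ S.index := by
  let := Fintype.ofFinite (G ⧸ S)
  let := Fintype.ofFinite (Quotient (orbitRel (zpowers g) (G ⧸ S)))
  let := Fintype.ofFinite (Quotient (orbitRel (↥W) (G ⧸ S)))
  let val : G → A := fun x => if h : x⁻¹ * g * x ∈ S then φ ⟨_, h⟩ else 1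
  let f : G ⧸ S → A := fun q => val q.out
  -- the value does not depend on the representative
  have hrep : ∀ (x : G) (s : ↥S), val (x * s) = val x := fun x s => by
    have e : (x * s : G)⁻¹ * g * (x * s) = (s : G)⁻¹ * (x⁻¹ * g * x) * s := by group
    by_cases h : x⁻¹ * g * x ∈ S
    · have h' : (x * s : G)⁻¹ * g * (x * s) ∈ S := e ▸ mul_mem (mul_mem (inv_mem s.2) h) s.2
      simp only [val, dif_pos h, dif_pos h']
      have e' : (⟨_, h'⟩ : ↥S) = s⁻¹ * ⟨_, h⟩ * s := Subtype.ext e
      rw [e', map_mul, map_mul, map_inv, mul_right_comm, inv_mul_cancel, one_mul]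
    · have h' : (x * s : G)⁻¹ * g * (x * s) ∉ S := fun h' => h (by
        have := mul_mem (mul_mem s.2 h') (inv_mem s.2)
        rwa [e, show (s : G) * ((s : G)⁻¹ * (x⁻¹ * g * x) * s) * (s : G)⁻¹ = x⁻¹ * g * x by group] at this)
      simp only [val, dif_neg h, dif_neg h']
  have hf : ∀ x : G, f (QuotientGroup.mk x) = val x := fun x => by
    obtain ⟨s, hs⟩ := QuotientGroup.mk_out_eq_mul S x
    show val (QuotientGroup.mk x : G ⧸ S).out = val x
    rw [hs, hrep]
  have hfix : ∀ q : G ⧸ S, g • q ≠ q → f q = 1 := fun q hq => by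
    refine dif_neg fun h => hq ?_
    conv_lhs => rw [← QuotientGroup.out_eq' q]
    conv_rhs => rw [← QuotientGroup.out_eq' q]
    rw [MulAction.Quotient.smul_mk, QuotientGroup.eq]
    have := inv_mem h
    rwa [show (q.out⁻¹ * g * q.out)⁻¹ = (g • q.out)⁻¹ * q.out by rw [smul_eq_mul]; group] at this
  -- the transfer is the product of the values
  have h1 : MonoidHom.transfer φ g = ∏ q : G ⧸ S, f q := by
    rw [MonoidHom.transfer_eq_prod_quotient_orbitRel_zpowers_quot,
      ← Finset.prod_fiberwise Finset.univ (fun q : G ⧸ S => Quotient.mk'' (s₁ := orbitRel (zpowers g) (G ⧸ S)) q) f]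
    refine Finset.prod_congr rfl fun c _ => ?_
    by_cases hc : g • c.out = c.out
    · have hper : Function.minimalPeriod (g • ·) c.out = 1 :=
        Function.minimalPeriod_eq_one_iff_isFixedPt.2 hc
      rw [Finset.prod_eq_single c.out]
      · have hm : c.out.out⁻¹ * g * c.out.out ∈ S := by
          have := QuotientGroup.out_conj_pow_minimalPeriod_mem S g c.out
          rwa [hper, pow_one] at this
        show _ = val _
        simp only [val, dif_pos hm]
        exact congrArg φ (Subtype.ext (by simp only [hper, pow_one]))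
      · intro q hq hne
        refine absurd ?_ hne
        rw [Finset.mem_filter] at hq
        have hr : orbitRel (zpowers g) (G ⧸ S) q c.out := Quotient.exact' (hq.2.trans (Quotient.out_eq' c).symm)
        obtain ⟨⟨y, hy⟩, rfl⟩ := hr
        obtain ⟨k, rfl⟩ := mem_zpowers_iff.1 hy
        show g ^ k • c.out = c.out
        exact (show g ^ k ∈ MulAction.stabilizer G c.out from zpow_mem hc k)
      · intro h
        exact (h (Finset.mem_filter.2 ⟨Finset.mem_univ _, Quotient.out_eq' c⟩)).elim
    · have hp : Function.minimalPeriod (g • ·) c.out = p := by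
        refine ((Nat.dvd_prime Fact.out).1 (Function.IsPeriodicPt.minimalPeriod_dvd ?_)).resolve_left
          fun e => hc (Function.minimalPeriod_eq_one_iff_isFixedPt.1 e)
        show (g • ·)^[p] c.out = c.out
        rw [smul_iterate, hgp]
        exact one_smul G _
      rw [Finset.prod_eq_one fun q hq => hfix q ?_]
      · rw [← map_one φ]
        exact congrArg φ (Subtype.ext (by simp only [hp, hgp, mul_one, inv_mul_cancel, Subgroup.coe_one]))
      · intro hq'
        rw [Finset.mem_filter] at hq
        have hr : orbitRel (zpowers g) (G ⧸ S) c.out q := Quotient.exact' ((Quotient.out_eq' c).trans hq.2.symm)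
        obtain ⟨⟨y, hy⟩, hy'⟩ := hr
        obtain ⟨k, rfl⟩ := mem_zpowers_iff.1 hy
        refine hc ?_
        have e : g ^ k • q = q := (show g ^ k ∈ MulAction.stabilizer G q from zpow_mem hq' k)
        change g ^ k • q = c.out at hy'
        rw [← hy', e, hq']
  -- constant on the orbits of `W`
  have h2 : ∀ (w : ↥W) (q : G ⧸ S), f (w • q) = f q := fun w q => by
    obtain ⟨x, rfl⟩ := QuotientGroup.mk_surjective q
    show f (QuotientGroup.mk ((w : G) * x)) = _
    rw [hf, hf]
    have e : ((w : G) * x)⁻¹ * g * ((w : G) * x) = x⁻¹ * g * x := by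
      rw [mul_inv_rev, mul_assoc x⁻¹, show (w : G)⁻¹ * g = g * (w : G)⁻¹ from
        ((hWc _ w.2).inv_right).eq.symm]
      group
    simp only [val, e]
  rw [h1, Subgroup.index_eq_card, Nat.card_eq_fintype_card, ← Finset.card_univ, ← Finset.prod_const,
    ← Finset.prod_fiberwise Finset.univ (fun q : G ⧸ S => Quotient.mk'' (s₁ := orbitRel (↥W) (G ⧸ S)) q) f,
    ← Finset.prod_fiberwise Finset.univ (fun q : G ⧸ S => Quotient.mk'' (s₁ := orbitRel (↥W) (G ⧸ S)) q)
      (fun _ => v)]
  refine Finset.prod_congr rfl fun c _ => ?_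
  have hconst : ∀ q ∈ Finset.univ.filter (fun q : G ⧸ S => Quotient.mk'' (s₁ := orbitRel (↥W) (G ⧸ S)) q = c),
      f q = f c.out := fun q hq => by
    have hr : orbitRel (↥W) (G ⧸ S) q c.out :=
      Quotient.exact' ((Finset.mem_filter.1 hq).2.trans (Quotient.out_eq' c).symm)
    obtain ⟨w, rfl⟩ := hr
    exact h2 w _
  rw [Finset.prod_congr rfl hconst, Finset.prod_const, Finset.prod_const]
  obtain ⟨k, hk⟩ := hWp.card_orbit c.out
  have hcard : (Finset.univ.filter (fun q : G ⧸ S => Quotient.mk'' (s₁ := orbitRel (↥W) (G ⧸ S)) q = c)).card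
      = Nat.card (orbit ↥W c.out) := by
    rw [← Nat.card_eq_finsetCard]
    refine Nat.card_congr (Equiv.subtypeEquivRight fun q => ?_)
    rw [Finset.mem_filter, and_iff_right (Finset.mem_univ q)]
    constructor
    · exact fun h => Quotient.exact' (h.trans (Quotient.out_eq' c).symm)
    · exact fun h => (Quotient.sound' h).trans (Quotient.out_eq' c)
  rw [hcard, hk]
  cases k with
  | zero =>
    rw [pow_zero, pow_one, pow_one]
    have hfx : ∀ w : ↥W, w • c.out = c.out := fun w => by
      have h1 : Nat.card (orbit ↥W c.out) = 1 := by rw [hk, pow_zero]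
      obtain ⟨hs, -⟩ := Nat.card_eq_one_iff_unique.1 h1
      exact congrArg Subtype.val (hs.elim ⟨_, mem_orbit c.out w⟩ ⟨_, mem_orbit_self c.out⟩)
    have hW : ∀ w ∈ W, c.out.out⁻¹ * w * c.out.out ∈ S := fun w hw => by
      have e := hfx ⟨w, hw⟩
      change w • c.out = c.out at e
      rw [← QuotientGroup.out_eq' c.out, MulAction.Quotient.smul_mk, QuotientGroup.eq, smul_eq_mul] at e
      have := inv_mem e
      rwa [show ((w * c.out.out)⁻¹ * c.out.out)⁻¹ = c.out.out⁻¹ * w * c.out.out by group] at this
    show val _ = v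
    simp only [val, dif_pos (hW g hgW)]
    exact hv _ hW _
  | succ k =>
    rw [pow_succ', pow_mul, pow_mul, hA, hA]

end Cfsg.Agent.U62Three.D
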