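import Cfsg.Agent.U62Three.D.Weak
import Cfsg.Agent.U62Three.D.Transfer
import Cfsg.Agent.U62Three.D.Sub
import Mathlib.GroupTheory.SpecificGroups.Cyclic

/-!
# PSU₆(2) from a centraliser of order three: the subgroup of index three

When the Sylow order is `3⁷` and no element inverts the frame, the transfer into `S / (J Q)` is nontrivial.
-/

set_option autoImplicit false

open Subgroup

namespace Cfsg.Agent.U62Three.D

open K

variable {G : Type*} [Group G] [Finite G] {z : G} {Q : Subgroup G}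

omit [Finite G] in
theorem perm_not_minus (D : Facts z Q) {n : G} {σ τ : Equiv.Perm (Fin 6)}
    (h : ∀ a b, n * D.F.j a b * n⁻¹ = D.F.j (σ a) (σ b))
    (h' : ∀ a b, n * D.F.j a b * n⁻¹ = D.F.j (τ b) (τ a)) : False := by
  have e01 := j_inj D.F (σ.injective.ne (show (0 : Fin 6) ≠ 1 by decide)) ((h 0 1).symm.trans (h' 0 1))
  have e02 := j_inj D.F (σ.injective.ne (show (0 : Fin 6) ≠ 2 by decide)) ((h 0 2).symm.trans (h' 0 2))
  exact absurd (τ.injective (e01.1.symm.trans e02.1)) (by decide)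

/-- Under `Plus` the weight-one elements are permuted. -/
theorem e_perm {D : Facts z Q} (Wd : Wide D.F) (hp : Plus D.F) {n : G}
    (hn : n ∈ normalizer (D.F.J : Set G)) : ∃ σ : Equiv.Perm (Fin 6), ∀ a, n * Wd.e a * n⁻¹ = Wd.e (σ a) := by
  obtain ⟨σ, h | h⟩ := Wd.mono n hn
  · exact ⟨σ, h⟩
  obtain ⟨τ, hτ⟩ := hp n hn
  refine (perm_not_minus D hτ (τ := σ) fun a b => ?_).elim
  rw [Wd.diff, Wd.diff, ← conj_mul, ← conj_inv, h, h, inv_inv]
  exact (((Wd.comm (σ a) (σ b)).inv_left).eq : _)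

/-- The subgroup of index three. -/
theorem index_three (hH : Hyp z Q) (D : Facts z Q) (Wd : Wide D.F) (hp : Plus D.F) :
    ∃ N : Subgroup G, N.Normal ∧ Nat.card ↥N < Nat.card G ∧
      ∃ hQ : Q ≤ N, Hyp (⟨z, hQ (z_mem hH)⟩ : ↥N) (Q.subgroupOf N) := by
  classical
  set C := centralizer (D.F.J : Set G)
  set S := syl z Q D
  set M₀ := (D.F.J ⊔ Q).subgroupOf S with hM₀
  have hJC : D.F.J ≤ C := fun a ha => mem_centralizer_iff.2 fun u hu => (frame_commute hu ha).eq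
  have hJS : D.F.J ⊔ Q ≤ S := sup_le_sup_right hJC Q
  have hmem : ∀ {a}, a ∈ D.F.J ⊔ Q → ∃ u ∈ D.F.J, ∃ q ∈ Q, a = u * q := fun {a} ha => by
    have ha' : a ∈ (↑(D.F.J ⊔ Q) : Set G) := ha
    rw [coe_mul_of_left_le_normalizer_right _ _ (hJC.trans (cj_norm_Q hH D Wd))] at ha'
    obtain ⟨u, hu, q, hq, e⟩ := ha'
    exact ⟨u, hu, q, hq, e.symm⟩
  have hn : M₀.Normal := ⟨fun a ha s => by
    obtain ⟨u, hu, q, hq, e⟩ := hmem (mem_subgroupOf.1 ha)
    obtain ⟨c, hc, q', hq', e'⟩ := syl_split hH D Wd s.2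
    rw [mem_subgroupOf, coe_mul, coe_mul, coe_inv, e, e']
    have h1 : c * (u * q) * c⁻¹ ∈ D.F.J ⊔ Q := by
      rw [← conj_mul, cj_fix D hc hu]
      exact mul_mem (mem_sup_left hu) (mem_sup_right ((mem_normalizer_iff.1 (cj_norm_Q hH D Wd hc) q).1 hq))
    have h2 : c * q' * c⁻¹ ∈ Q := (mem_normalizer_iff.1 (cj_norm_Q hH D Wd hc) q').1 hq'
    rw [show c * q' * (u * q) * (c * q')⁻¹ = (c * q' * c⁻¹) * (c * (u * q) * c⁻¹) * (c * q' * c⁻¹)⁻¹ by group]
    exact mul_mem (mul_mem (mem_sup_right h2) h1) (mem_sup_right (inv_mem h2))⟩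
  have he0 : Wd.e 0 ∈ S := mem_sup_left (e_mem D Wd 0)
  have he0M : Wd.e 0 ∉ D.F.J ⊔ Q := fun h => by
    obtain ⟨u, hu, q, hq, e⟩ := hmem h
    have hqC : q ∈ C := by
      rw [show q = u⁻¹ * Wd.e 0 by rw [e]; group]
      exact mul_mem (inv_mem (hJC hu)) (e_mem D Wd 0)
    have he : Wd.e 0 ∈ D.F.J := e ▸ mul_mem hu (cj_inf_Q_le hH D Wd ⟨hqC, hq⟩).1
    have hCJ : C ≤ D.F.J := by
      rw [show C = closure (Set.range Wd.e) from Wd.span, closure_le]
      rintro _ ⟨a, rfl⟩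
      rw [show Wd.e a = D.F.j a 0 * Wd.e 0 by rw [Wd.diff, inv_mul_cancel_right]]
      exact mul_mem (j_mem D.F _ _) he
    have h2 := Nat.le_of_dvd Nat.card_pos (card_dvd_of_le hCJ)
    rw [Wd.card, D.F.card] at h2
    norm_num at h2
  set v : ↥S ⧸ M₀ := QuotientGroup.mk ⟨Wd.e 0, he0⟩
  have hgen : ∀ a : ↥S ⧸ M₀, a ∈ zpowers v := by
    intro a
    obtain ⟨⟨s, hs⟩, rfl⟩ := QuotientGroup.mk_surjective a
    obtain ⟨c, hc, q, hq, e⟩ := syl_split hH D Wd hs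
    have hc' : ∃ k : ℤ, c * Wd.e 0 ^ k ∈ D.F.J := by
      clear e
      have hcl : c ∈ closure (Set.range Wd.e) := (Wd.span.le hc : _)
      induction hcl using closure_induction with
      | mem w hw =>
        obtain ⟨a, rfl⟩ := hw
        refine ⟨-1, ?_⟩
        rw [zpow_neg_one, ← Wd.diff]
        exact j_mem D.F _ _
      | one => exact ⟨0, by simp⟩
      | mul p r hp hr h1 h2 =>
        have hpC : p ∈ C := Wd.span.ge hp
        have hrC : r ∈ C := Wd.span.ge hr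
        obtain ⟨k, hk⟩ := h1 hpC
        obtain ⟨l, hl⟩ := h2 hrC
        refine ⟨k + l, ?_⟩
        have hcm : Commute r (Wd.e 0 ^ k) := (cj_comm D Wd hrC (zpow_mem (e_mem D Wd 0) k))
        rw [zpow_add, show p * r * (Wd.e 0 ^ k * Wd.e 0 ^ l) = p * (r * Wd.e 0 ^ k) * Wd.e 0 ^ l by group,
          hcm.eq, show p * (Wd.e 0 ^ k * r) * Wd.e 0 ^ l = (p * Wd.e 0 ^ k) * (r * Wd.e 0 ^ l) by group]
        exact mul_mem hk hl
      | inv p hp h1 =>
        have hpC : p ∈ C := Wd.span.ge hp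
        obtain ⟨k, hk⟩ := h1 hpC
        refine ⟨-k, ?_⟩
        have := inv_mem hk
        rwa [mul_inv_rev, ← zpow_neg, (cj_comm D Wd (zpow_mem (e_mem D Wd 0) _) (inv_mem hpC)).eq] at this
    obtain ⟨k, hk⟩ := hc'
    refine mem_zpowers_iff.2 ⟨-k, ?_⟩
    rw [← QuotientGroup.mk_zpow, QuotientGroup.eq, hM₀, mem_subgroupOf]
    show (((⟨Wd.e 0, he0⟩ : ↥S) ^ (-k))⁻¹ : ↥S).1 * s ∈ D.F.J ⊔ Q
    rw [coe_inv, coe_zpow, ← zpow_neg, neg_neg, e, ← mul_assoc,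
      (cj_comm D Wd (zpow_mem (e_mem D Wd 0) k) hc).eq]
    exact mul_mem (mem_sup_left hk) (mem_sup_right hq)
  let _ : CommGroup (↥S ⧸ M₀) :=
    { (inferInstance : Group (↥S ⧸ M₀)) with
      mul_comm := fun a b => by
        obtain ⟨k, rfl⟩ := mem_zpowers_iff.1 (hgen a)
        obtain ⟨l, rfl⟩ := mem_zpowers_iff.1 (hgen b)
        exact (Commute.zpow_zpow_self v k l).eq }
  have hv3 : v ^ 3 = 1 := by
    rw [← QuotientGroup.mk_pow, show (⟨Wd.e 0, he0⟩ : ↥S) ^ 3 = 1 from Subtype.ext (Wd.cube 0)]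
    rfl
  have hv1 : v ≠ 1 := fun h => he0M (mem_subgroupOf.1 ((QuotientGroup.eq_one_iff _).1 h))
  have hA : ∀ a : ↥S ⧸ M₀, a ^ 3 = 1 := fun a => by
    obtain ⟨k, rfl⟩ := mem_zpowers_iff.1 (hgen a)
    rw [← zpow_natCast, zpow_comm, zpow_natCast, hv3, one_zpow]
  let φ : ↥S →* ↥S ⧸ M₀ := QuotientGroup.mk' M₀
  set V := MonoidHom.transfer φ
  have hV : V (Wd.e 0) = v ^ S.index := by
    refine transfer_fixed hA S C φ D.centJ (e_mem D Wd 0) (Wd.cube 0)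
      (fun w hw => cj_comm D Wd (e_mem D Wd 0) hw) fun x hx h => ?_
    have hxJ := normalizer_cj_le hH D Wd (weakly_closed hH D Wd hx)
    obtain ⟨σ, hσ⟩ := e_perm Wd hp (inv_mem hxJ)
    have e := hσ 0
    rw [inv_inv] at e
    refine QuotientGroup.eq.2 ?_
    rw [hM₀, mem_subgroupOf, coe_mul, coe_inv]
    show (x⁻¹ * Wd.e 0 * x)⁻¹ * Wd.e 0 ∈ D.F.J ⊔ Q
    rw [e, show (Wd.e (σ 0))⁻¹ * Wd.e 0 = D.F.j 0 (σ 0) by
      rw [Wd.diff, ((Wd.comm (σ 0) 0).inv_left).eq]]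
    exact mem_sup_left (j_mem D.F _ _)
  have hov : orderOf v = 3 := orderOf_eq_prime hv3 hv1
  have hVo : orderOf (V (Wd.e 0)) = 3 := by
    refine orderOf_eq_prime (hA _) fun h => ?_
    rw [hV, ← orderOf_dvd_iff_pow_eq_one, hov] at h
    exact syl_index hH D Wd h
  have hrange : ∀ a : ↥S ⧸ M₀, a ∈ zpowers (V (Wd.e 0)) := fun a => by
    have : zpowers (V (Wd.e 0)) = zpowers v := eq_of_le_of_card_ge (zpowers_le.2 (hgen _))
      (by rw [Nat.card_zpowers, Nat.card_zpowers, hVo, hov])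
    rw [this]; exact hgen a
  set N := V.ker
  have hNn : N.Normal := MonoidHom.normal_ker V
  have hlt : Nat.card ↥N < Nat.card G := by
    refine lt_of_le_of_ne (Nat.le_of_dvd Nat.card_pos (card_subgroup_dvd_card N)) fun e => ?_
    have htop : N = ⊤ := eq_top_of_card_eq N e
    have h0 : Wd.e 0 ∈ N := htop ▸ mem_top _
    rw [MonoidHom.mem_ker] at h0
    rw [h0, orderOf_one] at hVo
    omega
  -- the frame is in the kernel
  have hinv : ∀ {a b : G}, (∃ g, g * a * g⁻¹ = b) → V a = V b := fun {a b} ⟨g, hg⟩ => by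
    rw [← hg, map_mul, map_mul, map_inv, mul_comm (V g), mul_inv_cancel_right]
  have hsq : ∀ a : ↥S ⧸ M₀, a = a⁻¹ → a = 1 := fun a ha => by
    have h3 := hA a
    rw [pow_succ, pow_two, eq_inv_iff_mul_eq_one.1 ha, one_mul] at h3
    exact h3
  have hVj : ∀ a b, D.F.j a b ∈ N := fun a b => by
    obtain ⟨n, -, hn'⟩ := D.F.perm (Equiv.swap a b)
    rw [MonoidHom.mem_ker]
    refine hsq _ ?_
    rw [← map_inv, j_symm]
    refine hinv ⟨n, ?_⟩
    rw [hn', Equiv.swap_apply_left, Equiv.swap_apply_right]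
  have hVz : z ∈ N := by
    have h := mul_mem (hVj 0 1) (hVj 2 1)
    rwa [← D.F.hz] at h
  have hQi : ∀ i, D.Qi i ≤ N := fun i x hx => by
    obtain ⟨k, hk⟩ := mem_zpowers_iff.1 (D.t_inv i x hx)
    have h1 : V (D.t i * x * (D.t i)⁻¹ * x) = 1 := by
      rw [← hk, map_zpow, MonoidHom.mem_ker.1 hVz, one_zpow]
    rw [map_mul, hinv (a := x) (b := D.t i * x * (D.t i)⁻¹) ⟨D.t i, rfl⟩ |>.symm] at h1
    exact MonoidHom.mem_ker.2 (hsq _ (eq_inv_of_mul_eq_one_left h1))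
  have hQN : Q ≤ N := D.sup ▸ sup_le (hQi 0) (hQi 1)
  refine ⟨N, hNn, hlt, hQN, hyp_sub hH hQN (fun P _ hPe _ x hx => ?_) fun g => ?_⟩
  · obtain ⟨e⟩ := hPe
    have hc : Nat.card ↥P = 64 := by
      rw [Nat.card_congr e.toEquiv, Nat.card_prod, Nat.card_eq_fintype_card, QuaternionGroup.card]
    have h64 : x ^ 64 = 1 := by
      have := congrArg Subtype.val (hc ▸ pow_card_eq_one' (x := (⟨x, hx⟩ : ↥P)))
      exact this
    have h1 : V x ^ 64 = 1 := by rw [← map_pow, h64, map_one]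
    have h3 := hA (V x)
    rw [MonoidHom.mem_ker]
    rw [show 64 = 3 * 21 + 1 by norm_num, pow_succ, pow_mul, h3, one_pow, one_mul] at h1
    exact h1
  · obtain ⟨k, hk⟩ := mem_zpowers_iff.1 (hrange (V g))
    refine ⟨Wd.e 0 ^ (-k), zpow_mem (cj_cz D (e_mem D Wd 0)) _, ?_⟩
    rw [MonoidHom.mem_ker, map_mul, map_zpow, ← hk, ← zpow_add, add_neg_cancel, zpow_zero]

end Cfsg.Agent.U62Three.D
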