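import Cfsg.Agent.U62Three.D.Coset
import Cfsg.Agent.U62Three.K.Z.Transport

/-!
# PSU₆(2) from a centraliser of order three: the normaliser of the frame as signed permutations

Two independent points of the frame centralise only elements normalising it, and in the case where some
element acts as minus a permutation there is such an involution over `(01)(24)(35)`.
-/

set_option autoImplicit false
set_option linter.unusedSectionVars false
set_option maxRecDepth 10000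

open Subgroup

namespace Cfsg.Agent.U62Three.D

open K

variable {G : Type*} [Group G] [Finite G] {z : G} {Q : Subgroup G}

/-- A signed root. -/
def sj (D : Facts z Q) (e : Bool) (a b : Fin 6) : G := if e then D.F.j b a else D.F.j a b

/-- The element acts as the permutation, negated when `e` is set. -/
def Acts (D : Facts z Q) (n : G) (σ : Equiv.Perm (Fin 6)) (e : Bool) : Prop :=
  ∀ a b, n * D.F.j a b * n⁻¹ = sj D e (σ a) (σ b)

/-- The signed action on vectors. -/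
def sv (σ : Equiv.Perm (Fin 6)) (e : Bool) (v : V6) : V6 :=
  fun c => if e then -v (σ.symm c) else v (σ.symm c)

/-- The permutation of the negative involution. -/
def pi0 : Equiv.Perm (Fin 6) := Equiv.swap 0 1 * Equiv.swap 2 4 * Equiv.swap 3 5

/-- The vector of a member of the frame centralised by the negative involution. -/
def jv (x y c : ZMod 3) : V6 := ![x, -x, y, c, -y, -c]

/-- The vector of the point `{a, b, c}`. -/
def ptv (a b c : Fin 6) : V6 := vd a b + vd c b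

/-- The vector of `z`. -/
def zv : V6 := ptv 0 1 2

/-- The vector of `e₀ + e₁ + e₃`. -/
def yv : V6 := vd 0 3 + vd 1 3

theorem wsum_vd : ∀ a b : Fin 6, wsum (vd a b) = 0 := by decide +kernel

theorem wsum_add {v w : V6} (hv : wsum v = 0) (hw : wsum w = 0) : wsum (v + w) = 0 := by
  linear_combination (norm := (simp only [wsum, Pi.add_apply]; ring)) hv + hw

theorem wsum_ptv (a b c : Fin 6) : wsum (ptv a b c) = 0 := wsum_add (wsum_vd a b) (wsum_vd c b)

theorem wsum_sv {σ : Equiv.Perm (Fin 6)} {e : Bool} {v : V6} (hv : wsum v = 0) : wsum (sv σ e v) = 0 := by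
  have hsum : ∀ w : V6, wsum w = ∑ c, w c := fun w => by rw [Fin.sum_univ_six]; rfl
  rw [hsum] at hv ⊢
  cases e
  · exact (Equiv.sum_comp σ.symm v).trans hv
  · show ∑ c, -v (σ.symm c) = 0
    rw [Finset.sum_neg_distrib, Equiv.sum_comp σ.symm v, hv, neg_zero]

theorem wsum_jv : ∀ x y c : ZMod 3, wsum (jv x y c) = 0 := by decide +kernel

variable (D : Facts z Q)

theorem sj_eq (e : Bool) (a b : Fin 6) :
    sj D e a b = el D.F (if e then -vd a b else vd a b) := by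
  cases e
  · exact (el_vd D.F a b).symm
  · show D.F.j b a = _
    rw [if_pos rfl, ← el_inv, el_vd, j_symm]

namespace Acts

variable {D} {m n : G} {σ τ : Equiv.Perm (Fin 6)} {e e' : Bool}

theorem sj_conj (hm : Acts D m σ e) (e' : Bool) (a b : Fin 6) :
    m * sj D e' a b * m⁻¹ = sj D (xor e e') (σ a) (σ b) := by
  cases e' <;> cases e <;> exact hm _ _

theorem mul (hm : Acts D m σ e) (hn : Acts D n τ e') : Acts D (m * n) (σ * τ) (xor e e') := fun a b => by
  rw [show m * n * D.F.j a b * (m * n)⁻¹ = m * (n * D.F.j a b * n⁻¹) * m⁻¹ by group, hn, hm.sj_conj]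
  rfl

theorem one : Acts D (1 : G) 1 false := fun a b => by simp [sj]

theorem inv (hn : Acts D n σ e) : Acts D n⁻¹ σ⁻¹ e := fun a b => by
  have h := hn.sj_conj e (σ⁻¹ a) (σ⁻¹ b)
  rw [Bool.xor_self, Equiv.Perm.coe_inv, Equiv.apply_symm_apply, Equiv.apply_symm_apply] at h
  change n * sj D e (σ⁻¹ a) (σ⁻¹ b) * n⁻¹ = D.F.j a b at h
  rw [← h]; group

theorem conj (hm : Acts D m σ e) (hn : Acts D n τ e') : Acts D (m * n * m⁻¹) (σ * τ * σ⁻¹) e' := by
  have h := (hm.mul hn).mul hm.inv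
  rwa [Bool.xor_comm e e', Bool.xor_assoc, Bool.xor_self, Bool.xor_false] at h

theorem pow (hn : Acts D n σ e) : ∀ k : ℕ, Acts D (n ^ k) (σ ^ k) (e && decide (k % 2 = 1))
  | 0 => by simpa using Acts.one (D := D)
  | k + 1 => by
    have h := (hn.pow k).mul hn
    rw [← pow_succ, ← pow_succ] at h
    have e1 : (e && decide ((k + 1) % 2 = 1)) = xor (e && decide (k % 2 = 1)) e := by
      rcases (show k % 2 = 0 ∨ k % 2 = 1 by omega) with hk | hk <;>
        cases e <;> simp [hk, Nat.add_mod]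
    rwa [e1]

theorem unique (h : Acts D n σ e) (h' : Acts D n τ e') : σ = τ ∧ e = e' := by
  have h1 := fun a b => (h a b).symm.trans (h' a b)
  have hpm : ∀ σ' τ' : Equiv.Perm (Fin 6), (∀ a b, D.F.j (σ' a) (σ' b) = D.F.j (τ' b) (τ' a)) → False := by
    intro σ' τ' h2
    have a1 := (j_inj D.F (σ'.injective.ne (show (0 : Fin 6) ≠ 1 by decide)) (h2 0 1)).1
    have a2 := (j_inj D.F (σ'.injective.ne (show (0 : Fin 6) ≠ 2 by decide)) (h2 0 2)).1
    exact absurd (τ'.injective (a1.symm.trans a2)) (by decide)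
  have hpp : ∀ σ' τ' : Equiv.Perm (Fin 6), (∀ a b, D.F.j (σ' a) (σ' b) = D.F.j (τ' a) (τ' b)) → σ' = τ' := by
    intro σ' τ' h2
    refine Equiv.ext fun a => ?_
    obtain ⟨b, hb⟩ : ∃ b : Fin 6, a ≠ b := by revert a; decide
    exact (j_inj D.F (σ'.injective.ne hb) (h2 a b)).1
  cases e <;> cases e'
  · exact ⟨hpp σ τ h1, rfl⟩
  · exact (hpm σ τ h1).elim
  · exact (hpm τ σ fun a b => (h1 a b).symm).elim
  · exact ⟨hpp σ τ fun a b => h1 b a, rfl⟩

theorem el_eq (hn : Acts D n σ e) {v : V6} (hv : wsum v = 0) :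
    n * el D.F v * n⁻¹ = el D.F (sv σ e v) := by
  have key : ∀ v : V6, wsum v = 0 → v = (v 0).val • vd 0 5 + (v 1).val • vd 1 5 + (v 2).val • vd 2 5 +
      (v 3).val • vd 3 5 + (v 4).val • vd 4 5 := by decide +kernel
  conv_lhs => rw [el]
  simp only [← conj_mul, ← conj_pow, hn _ _, sj_eq, el_pow, el_mul]
  congr 1
  funext c
  simp only [sv]
  conv_rhs => rw [key v hv]
  cases e <;>
    simp only [Bool.false_eq_true, if_false, if_true, Pi.add_apply, Pi.smul_apply, Pi.neg_apply, vd,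
      Equiv.symm_apply_eq, smul_neg, neg_add]

theorem commute_iff (hn : Acts D n σ e) {v : V6} (hv : wsum v = 0) :
    Commute n (el D.F v) ↔ Same (sv σ e v) v := by
  rw [← el_eq_iff D.F (wsum_sv hv) hv, ← hn.el_eq hv, mul_inv_eq_iff_eq_mul]
  exact Iff.rfl

theorem mem (hn : Acts D n σ e) : n ∈ normalizer (D.F.J : Set G) := by
  refine mem_normalizer_fintype fun x hx => ?_
  obtain ⟨v, hv, rfl⟩ := el_surj D.F hx
  rw [hn.el_eq hv]
  exact el_mem _ _

theorem mem_cent (hn : Acts D n 1 false) : n ∈ centralizer (D.F.J : Set G) := by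
  refine mem_centralizer_iff.2 fun x hx => ?_
  obtain ⟨v, hv, rfl⟩ := el_surj D.F hx
  exact ((hn.commute_iff hv).2 fun c => by simp [sv, Equiv.Perm.one_symm]).symm.eq

end Acts

theorem exists_acts {n : G} (hn : n ∈ normalizer (D.F.J : Set G)) : ∃ σ e, Acts D n σ e := by
  obtain ⟨σ, h | h⟩ := D.mono n hn
  · exact ⟨σ, false, h⟩
  · exact ⟨σ, true, h⟩

theorem acts_cent {n : G} (hn : n ∈ centralizer (D.F.J : Set G)) : Acts D n 1 false :=
  fun a b => cj_fix D hn (j_mem D.F a b)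

theorem acts_t : Acts D (D.t 0) (Equiv.swap 0 1) false := D.t_zero

theorem exists_lift (σ : Equiv.Perm (Fin 6)) : ∃ n, Acts D n σ false := by
  obtain ⟨n, -, h⟩ := D.F.perm σ
  exact ⟨n, h⟩

/-- An element of odd order inverted by an involution gives conjugate involutions. -/
theorem inv_conj {c s : G} {k : ℕ} (hc : c ^ (3 ^ k) = 1) (hs : s * c * s⁻¹ = c⁻¹) :
    ∃ d ∈ zpowers c, d * s * d⁻¹ = c * s := by
  obtain ⟨m, hm⟩ : ∃ m : ℕ, 3 ^ k + 1 = m + m := (Odd.pow (n := k) (by decide : Odd 3)).add_one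
  refine ⟨c ^ m, pow_mem (mem_zpowers c) m, ?_⟩
  have h1 : s * (c ^ m)⁻¹ = c ^ m * s := by
    rw [← mul_inv_eq_iff_eq_mul, ← conj_inv, ← conj_pow, hs, inv_pow, inv_inv]
  rw [mul_assoc, h1, ← mul_assoc, ← pow_add, ← hm, pow_succ, hc, one_mul]

/-- An element of order prime to two whose square lies in a subgroup lies in it. -/
theorem mem_of_sq_mem {H : Subgroup G} {x : G} (hx : Odd (orderOf x)) (h2 : x * x ∈ H) : x ∈ H := by
  obtain ⟨k, hk⟩ := hx
  have e : (x * x) ^ (k + 1) = x := by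
    rw [← pow_two, ← pow_mul, show 2 * (k + 1) = orderOf x + 1 by omega, pow_succ, pow_orderOf_eq_one, one_mul]
  rw [← e]
  exact pow_mem h2 _

theorem odd_three {H : Subgroup G} (h : IsPGroup 3 ↥H) {x : G} (hx : x ∈ H) : Odd (orderOf x) := by
  obtain ⟨k, hk⟩ := h ⟨x, hx⟩
  exact Odd.of_dvd_nat (Odd.pow (by decide : Odd 3)) (orderOf_dvd_of_pow_eq_one (congrArg Subtype.val hk))

variable (hH : Hyp z Q)

include hH

/-- The normaliser of `C(J)` normalises `J`. -/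
theorem norm_cj_le : normalizer (centralizer (D.F.J : Set G) : Set G) ≤ normalizer (D.F.J : Set G) := by
  by_cases h : 3 ^ 7 ∣ Nat.card ↥(centralizer ({z} : Set G))
  · obtain ⟨Wd⟩ := D.wide h
    exact normalizer_cj_le hH D Wd
  · rw [D.narrow h]

/-- The conjugates of `z` in `C(J)` lie in `J`. -/
theorem conj_J {g : G} (hg : g * z * g⁻¹ ∈ centralizer (D.F.J : Set G)) : g * z * g⁻¹ ∈ D.F.J := by
  by_cases h : 3 ^ 7 ∣ Nat.card ↥(centralizer ({z} : Set G))
  · obtain ⟨Wd⟩ := D.wide h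
    exact conj_in_J hH D Wd hg
  · rwa [D.narrow h] at hg

theorem z_el : z = el D.F zv := by
  rw [zv, ptv, ← el_mul, el_vd, el_vd]
  exact D.F.hz

omit hH in
theorem y0_el : y0 D = el D.F yv := by
  rw [yv, ← el_mul, el_vd, el_vd]; rfl

omit hH in
theorem conj_cent {n a g : G} (hg : g ∈ centralizer ({n * a * n⁻¹} : Set G)) :
    n⁻¹ * g * n ∈ centralizer ({a} : Set G) := by
  rw [mem_centralizer_singleton_iff] at hg ⊢
  calc n⁻¹ * g * n * a = n⁻¹ * (g * (n * a * n⁻¹)) * n := by group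
    _ = n⁻¹ * (n * a * n⁻¹ * g) * n := by rw [hg]
    _ = a * (n⁻¹ * g * n) := by group

/-- Only elements normalising the frame centralise `z` and `e₀ + e₁ + e₃`. -/
theorem pair_base :
    centralizer ({z} : Set G) ⊓ centralizer ({y0 D} : Set G) ≤ normalizer (D.F.J : Set G) := by
  rintro g ⟨hgz, hgy⟩
  refine norm_cj_le D hH (mem_normalizer_fintype fun c hc => ?_)
  have hgy' : Commute g (y0 D) := mem_centralizer_singleton_iff.1 hgy
  have hJQ : ∀ {u}, u ∈ D.F.J → u ∈ Q → g⁻¹ * u * g ∈ D.F.J := fun {u} hu huQ => by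
    have hQ' : g⁻¹ * u * g ∈ Q := by
      have := (mem_normalizer_iff.1 (hH.normal (inv_mem hgz)) u).1 huQ
      rwa [inv_inv] at this
    refine D.centQ _ hQ' ?_
    have := (frame_commute hu (y0_J D)).map (MulAut.conj g⁻¹).toMonoidHom
    simp only [MulEquiv.coe_toMonoidHom, MulAut.conj_apply, inv_inv] at this
    rwa [hgy'.inv_left.eq, inv_mul_cancel_right] at this
  have hj : ∀ {u}, u ∈ D.F.J → u ∈ Q → Commute (g * c * g⁻¹) u := fun {u} hu huQ => by
    have h1 : Commute c (g⁻¹ * u * g) := (mem_centralizer_iff.1 hc _ (hJQ hu huQ)).symm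
    have := h1.map (MulAut.conj g).toMonoidHom
    simp only [MulEquiv.coe_toMonoidHom, MulAut.conj_apply] at this
    rwa [show g * (g⁻¹ * u * g) * g⁻¹ = u by group] at this
  exact cent_JQ D hH (mul_mem (mul_mem hgz (cj_cz D hc)) (inv_mem hgz))
    (hj (j_mem D.F 0 1) (D.le 0 D.j_zero.1)) (hj (j_mem D.F 3 4) (D.le 1 D.j_one.1))

/-- Two independent points of the frame are the images of `z` and of `e₀ + e₁ + e₃` or its inverse. -/
theorem pair_form {g₁ g₂ : G} (h₁ : g₁ * z * g₁⁻¹ ∈ D.F.J) (h₂ : g₂ * z * g₂⁻¹ ∈ D.F.J)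
    (hne : g₂ * z * g₂⁻¹ ∉ zpowers (g₁ * z * g₁⁻¹)) :
    ∃ n ∈ normalizer (D.F.J : Set G), g₁ * z * g₁⁻¹ = n * z * n⁻¹ ∧
      (g₂ * z * g₂⁻¹ = n * y0 D * n⁻¹ ∨ g₂ * z * g₂⁻¹ = n * (y0 D)⁻¹ * n⁻¹) := by
  obtain ⟨σ, hσ⟩ := D.points g₁ h₁
  obtain ⟨n₁, hn₁⟩ := exists_lift D σ
  have hz₁ : n₁ * z * n₁⁻¹ = g₁ * z * g₁⁻¹ := by
    rw [hσ]
    conv_lhs => rw [D.F.hz, ← conj_mul, hn₁, hn₁]
    rfl
  have h₂' : n₁⁻¹ * g₂ * z * (n₁⁻¹ * g₂)⁻¹ ∈ D.F.J := by
    have := (mem_normalizer_iff.1 (inv_mem hn₁.mem) _).1 h₂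
    rwa [show n₁⁻¹ * g₂ * z * (n₁⁻¹ * g₂)⁻¹ = n₁⁻¹ * (g₂ * z * g₂⁻¹) * n₁⁻¹⁻¹ by group]
  obtain ⟨τ, hτ⟩ := D.points _ h₂'
  have key : ∀ a b c : Fin 6, a ≠ b → b ≠ c → a ≠ c →
      Same (ptv a b c) zv ∨ Same (ptv a b c) (-zv) ∨
      ∃ x y : Fin 6, x < 3 ∧ 3 ≤ y ∧ Same (sv (Equiv.swap 2 x * Equiv.swap 3 y) false zv) zv ∧
        (Same (ptv a b c) (sv (Equiv.swap 2 x * Equiv.swap 3 y) false yv) ∨
          Same (ptv a b c) (sv (Equiv.swap 2 x * Equiv.swap 3 y) false (-yv))) := by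
    decide +kernel
  have hP : n₁⁻¹ * g₂ * z * (n₁⁻¹ * g₂)⁻¹ = el D.F (ptv (τ 0) (τ 1) (τ 2)) := by
    rw [hτ, ptv, ← el_mul, el_vd, el_vd]
  have hg₂ : g₂ * z * g₂⁻¹ = n₁ * (n₁⁻¹ * g₂ * z * (n₁⁻¹ * g₂)⁻¹) * n₁⁻¹ := by group
  have hzs : wsum zv = 0 := wsum_ptv _ _ _
  have hys : wsum yv = 0 := wsum_add (wsum_vd _ _) (wsum_vd _ _)
  have hzs' : wsum (-zv) = 0 := by decide +kernel
  have hys' : wsum (-yv) = 0 := by decide +kernel
  rcases key (τ 0) (τ 1) (τ 2) (τ.injective.ne (by decide)) (τ.injective.ne (by decide))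
      (τ.injective.ne (by decide)) with h | h | ⟨x, y, -, -, hfix, h⟩
  · refine absurd ?_ hne
    rw [hg₂, hP, (el_eq_iff D.F (wsum_ptv _ _ _) hzs).2 h, ← z_el D hH, hz₁]
    exact mem_zpowers _
  · refine absurd ?_ hne
    rw [hg₂, hP, (el_eq_iff D.F (wsum_ptv _ _ _) hzs').2 h, ← el_inv, ← z_el D hH, ← conj_inv, hz₁]
    exact inv_mem (mem_zpowers _)
  · obtain ⟨m, hm⟩ := exists_lift D (Equiv.swap 2 x * Equiv.swap 3 y)
    refine ⟨n₁ * m, mul_mem hn₁.mem hm.mem, ?_, ?_⟩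
    · rw [← hz₁, show n₁ * m * z * (n₁ * m)⁻¹ = n₁ * (m * z * m⁻¹) * n₁⁻¹ by group]
      conv_rhs => rw [z_el D hH, hm.el_eq hzs, (el_eq_iff D.F (wsum_sv hzs) hzs).2 hfix, ← z_el D hH]
    · rw [y0_el D, el_inv]
      rcases h with h | h
      · left
        rw [hg₂, hP, (el_eq_iff D.F (wsum_ptv _ _ _) (wsum_sv hys)).2 h, ← hm.el_eq hys]
        group
      · right
        rw [hg₂, hP, (el_eq_iff D.F (wsum_ptv _ _ _) (wsum_sv hys')).2 h, ← hm.el_eq hys']
        group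

/-- Two independent points centralise only elements normalising the frame. -/
theorem pair_le {g₁ g₂ : G} (h₁ : g₁ * z * g₁⁻¹ ∈ D.F.J) (h₂ : g₂ * z * g₂⁻¹ ∈ D.F.J)
    (hne : g₂ * z * g₂⁻¹ ∉ zpowers (g₁ * z * g₁⁻¹)) :
    centralizer ({g₁ * z * g₁⁻¹} : Set G) ⊓ centralizer ({g₂ * z * g₂⁻¹} : Set G) ≤
      normalizer (D.F.J : Set G) := by
  rintro g ⟨hg₁, hg₂⟩
  obtain ⟨n, hn, e₁, e₂⟩ := pair_form D hH h₁ h₂ hne
  have k₁ : n⁻¹ * g * n ∈ centralizer ({z} : Set G) := conj_cent (e₁ ▸ hg₁)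
  have k₂ : n⁻¹ * g * n ∈ centralizer ({y0 D} : Set G) := by
    rcases e₂ with e | e
    · exact conj_cent (e ▸ hg₂)
    · refine conj_cent (n := n) (a := y0 D) ?_
      rw [mem_centralizer_singleton_iff]
      have : Commute g (g₂ * z * g₂⁻¹) := mem_centralizer_singleton_iff.1 hg₂
      rw [e, ← conj_inv] at this
      simpa using this.inv_right.eq
  have := mul_mem (mul_mem hn (pair_base D hH ⟨k₁, k₂⟩)) (inv_mem hn)
  rwa [show n * (n⁻¹ * g * n) * n⁻¹ = g by group] at this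

/-- The elements of odd order centralising two independent points lie in `C(J)`. -/
theorem pair_odd {g₁ g₂ x : G} (h₁ : g₁ * z * g₁⁻¹ ∈ D.F.J) (h₂ : g₂ * z * g₂⁻¹ ∈ D.F.J)
    (hne : g₂ * z * g₂⁻¹ ∉ zpowers (g₁ * z * g₁⁻¹)) (hx₁ : Commute x (g₁ * z * g₁⁻¹))
    (hx₂ : Commute x (g₂ * z * g₂⁻¹)) (hodd : Odd (orderOf x)) : x ∈ centralizer (D.F.J : Set G) := by
  have hxN : x ∈ normalizer (D.F.J : Set G) := pair_le D hH h₁ h₂ hne
    ⟨mem_centralizer_singleton_iff.2 hx₁.eq, mem_centralizer_singleton_iff.2 hx₂.eq⟩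
  obtain ⟨n, hn, e₁, e₂⟩ := pair_form D hH h₁ h₂ hne
  obtain ⟨σ, e, hσ⟩ := exists_acts D hn
  obtain ⟨τ, e', hτ⟩ := exists_acts D hxN
  have hu := hσ.inv.conj hτ
  rw [inv_inv] at hu
  have hu₁ : Commute (n⁻¹ * x * n) z :=
    mem_centralizer_singleton_iff.1 (conj_cent (e₁ ▸ mem_centralizer_singleton_iff.2 hx₁.eq))
  have hu₂ : Commute (n⁻¹ * x * n) (y0 D) := by
    rcases e₂ with e | e
    · exact mem_centralizer_singleton_iff.1 (conj_cent (e ▸ mem_centralizer_singleton_iff.2 hx₂.eq))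
    · have h3 : Commute x (n * y0 D * n⁻¹) := by
        rw [e, ← conj_inv] at hx₂; simpa using hx₂.inv_right
      exact mem_centralizer_singleton_iff.1 (conj_cent (mem_centralizer_singleton_iff.2 h3.eq))
  rw [z_el D hH, hu.commute_iff (show wsum zv = 0 from wsum_ptv _ _ _)] at hu₁
  rw [y0_el D, hu.commute_iff (show wsum yv = 0 from wsum_add (wsum_vd _ _) (wsum_vd _ _))] at hu₂
  have key : ∀ σ : Equiv.Perm (Fin 6), ∀ e : Bool,
      Same (sv σ e zv) zv → Same (sv σ e yv) yv → σ * σ * (σ * σ) = 1 := by decide +kernel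
  have hu' := (hu.mul hu).mul (hu.mul hu)
  rw [key _ _ hu₁ hu₂, Bool.xor_self] at hu'
  have h3 := hσ.conj hu'
  rw [mul_one, mul_inv_cancel] at h3
  have h4 := h3.mem_cent
  rw [show n * (n⁻¹ * x * n * (n⁻¹ * x * n) * (n⁻¹ * x * n * (n⁻¹ * x * n))) * n⁻¹ = x * x * (x * x) by
    group] at h4
  refine mem_of_sq_mem hodd (mem_of_sq_mem ?_ h4)
  exact Odd.of_dvd_nat hodd (by rw [← pow_two]; exact orderOf_pow_dvd 2)

omit hH in
/-- A lift of a permutation commuting with the transposition into the centraliser of `t`. -/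
theorem adjust {n : G} {σ : Equiv.Perm (Fin 6)} {e : Bool} (hn : Acts D n σ e)
    (hσ : σ * Equiv.swap 0 1 = Equiv.swap 0 1 * σ) :
    ∃ m ∈ nt D, Acts D m σ e := by
  set t := D.t 0 with ht
  have htt : t * t = 1 := t_sq D 0
  have hti : t⁻¹ = t := t_inv_self D 0
  set c := n * t * n⁻¹ * t⁻¹ with hc
  have hcC : c ∈ centralizer (D.F.J : Set G) := by
    have h := (hn.conj (acts_t D)).mul (acts_t D).inv
    rw [hσ, mul_assoc (Equiv.swap (0 : Fin 6) 1) σ σ⁻¹, mul_inv_cancel, mul_one, mul_inv_cancel] at h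
    exact h.mem_cent
  obtain ⟨k, hk⟩ := D.centJ ⟨c, hcC⟩
  replace hk : c ^ (3 ^ k) = 1 := congrArg Subtype.val hk
  have hinv : t * c * t⁻¹ = c⁻¹ := by
    rw [hc]
    calc t * (n * t * n⁻¹ * t⁻¹) * t⁻¹ = t * n * t * n⁻¹ * (t * t)⁻¹ := by group
      _ = t * n * t⁻¹ * n⁻¹ := by rw [htt, hti, inv_one, mul_one]
      _ = (n * t * n⁻¹ * t⁻¹)⁻¹ := by group
  obtain ⟨d, hd, hdt⟩ := inv_conj hk hinv
  have hdC : d ∈ centralizer (D.F.J : Set G) := zpowers_le.2 hcC hd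
  refine ⟨d⁻¹ * n, ⟨mul_mem (centralizer_le_normalizer _ (inv_mem hdC)) hn.mem,
    mem_centralizer_singleton_iff.2 ?_⟩, ?_⟩
  · calc d⁻¹ * n * t = d⁻¹ * (c * t) * n := by rw [hc]; group
      _ = t * (d⁻¹ * n) := by rw [← hdt]; group
  · simpa using (acts_cent D hdC).inv.mul hn

omit hH in
/-- The negative involution. -/
theorem exists_tau (hp : ¬ Plus D.F) :
    ∃ τ, Acts D τ pi0 true ∧ τ * τ = 1 ∧ Commute τ (D.t 0) := by
  simp only [Plus, not_forall, not_exists] at hp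
  obtain ⟨n, hn, hno⟩ := hp
  obtain ⟨σ, e, he⟩ := exists_acts D hn
  cases e with
  | false =>
    obtain ⟨a, b, hab⟩ := hno σ
    exact absurd (he a b) hab
  | true =>
    obtain ⟨m, hm⟩ := exists_lift D (pi0 * σ⁻¹)
    have h := hm.mul he
    rw [inv_mul_cancel_right] at h
    obtain ⟨w, hw, hwa⟩ := adjust D h (by decide +kernel)
    obtain ⟨k, hk⟩ := D.centJ ⟨w * w, by
      have h2 := hwa.mul hwa
      rw [show pi0 * pi0 = 1 by decide +kernel, Bool.xor_self] at h2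
      exact h2.mem_cent⟩
    replace hk : (w * w) ^ (3 ^ k) = 1 := congrArg Subtype.val hk
    refine ⟨w ^ (3 ^ k), ?_, ?_, ?_⟩
    · obtain ⟨q, hq⟩ : Odd (3 ^ k) := Odd.pow (by decide)
      have h2 := hwa.pow (3 ^ k)
      have e1 : pi0 ^ (3 ^ k) = pi0 := by
        rw [hq, pow_succ, pow_mul, show pi0 ^ 2 = 1 by decide +kernel, one_pow, one_mul]
      rw [e1, hq] at h2
      rw [hq]
      simpa [Nat.add_mod] using h2
    · rw [← (Commute.refl w).mul_pow]; exact hk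
    · exact Commute.pow_left (mem_centralizer_singleton_iff.1 hw.2) _

omit hH in
/-- The weight-one elements follow the signed permutations. -/
theorem wide_acts (Wd : Wide D.F) {n : G} {σ : Equiv.Perm (Fin 6)} {e : Bool} (hn : Acts D n σ e) (a : Fin 6) :
    n * Wd.e a * n⁻¹ = if e then (Wd.e (σ a))⁻¹ else Wd.e (σ a) := by
  obtain ⟨τ, h | h⟩ := Wd.mono n hn.mem
  · obtain ⟨rfl, rfl⟩ := hn.unique (show Acts D n τ false from fun a b => by
      rw [Wd.diff, ← conj_mul, ← conj_inv, h, h, ← Wd.diff]; rfl)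
    exact h a
  · obtain ⟨rfl, rfl⟩ := hn.unique (show Acts D n τ true from fun a b => by
      rw [Wd.diff, ← conj_mul, ← conj_inv, h, h, inv_inv]
      show _ = D.F.j _ _
      rw [Wd.diff]
      exact ((Wd.comm (τ a) (τ b)).inv_left).eq)
    exact h a

omit hH in
/-- `C(J)` is the frame and the powers of one weight-one element. -/
theorem wide_split (Wd : Wide D.F) {x : G} (hx : x ∈ centralizer (D.F.J : Set G)) :
    ∃ k : ℤ, x * Wd.e 0 ^ k ∈ D.F.J := by
  have hcl : x ∈ closure (Set.range Wd.e) := (Wd.span.le hx : _)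
  induction hcl using closure_induction with
  | mem w hw =>
    obtain ⟨a, rfl⟩ := hw
    refine ⟨-1, ?_⟩
    rw [zpow_neg_one, ← Wd.diff]
    exact j_mem D.F _ _
  | one => exact ⟨0, by simp⟩
  | mul p r hp hr h1 h2 =>
    have hpC : p ∈ centralizer (D.F.J : Set G) := Wd.span.ge hp
    have hrC : r ∈ centralizer (D.F.J : Set G) := Wd.span.ge hr
    obtain ⟨k, hk⟩ := h1 hpC
    obtain ⟨l, hl⟩ := h2 hrC
    refine ⟨k + l, ?_⟩
    have hcm : Commute r (Wd.e 0 ^ k) := cj_comm D Wd hrC (zpow_mem (e_mem D Wd 0) k)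
    rw [zpow_add, show p * r * (Wd.e 0 ^ k * Wd.e 0 ^ l) = p * (r * Wd.e 0 ^ k) * Wd.e 0 ^ l by group,
      hcm.eq, show p * (Wd.e 0 ^ k * r) * Wd.e 0 ^ l = (p * Wd.e 0 ^ k) * (r * Wd.e 0 ^ l) by group]
    exact mul_mem hk hl
  | inv p hp h1 =>
    have hpC : p ∈ centralizer (D.F.J : Set G) := Wd.span.ge hp
    obtain ⟨k, hk⟩ := h1 hpC
    refine ⟨-k, ?_⟩
    have := inv_mem hk
    rwa [mul_inv_rev, ← zpow_neg, (cj_comm D Wd (zpow_mem (e_mem D Wd 0) _) (inv_mem hpC)).eq] at this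

omit hH in
theorem e0_not_J (Wd : Wide D.F) : Wd.e 0 ∉ D.F.J := fun he => by
  have hCJ : centralizer (D.F.J : Set G) ≤ D.F.J := by
    rw [Wd.span, closure_le]
    rintro _ ⟨a, rfl⟩
    rw [show Wd.e a = D.F.j a 0 * Wd.e 0 by rw [Wd.diff, inv_mul_cancel_right]]
    exact mul_mem (j_mem D.F _ _) he
  have h2 := Nat.le_of_dvd Nat.card_pos (card_dvd_of_le hCJ)
  rw [Wd.card, D.F.card] at h2
  norm_num at h2

/-- The centraliser of the frame meets the centraliser of the negative involution in the frame. -/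
theorem cj_tau {τ : G} (hτ : Acts D τ pi0 true) {x : G} (hx : x ∈ centralizer (D.F.J : Set G))
    (hxt : Commute τ x) : x ∈ D.F.J := by
  by_cases h : 3 ^ 7 ∣ Nat.card ↥(centralizer ({z} : Set G))
  · obtain ⟨Wd⟩ := D.wide h
    obtain ⟨k, hk⟩ := wide_split D Wd hx
    have he : τ * Wd.e 0 * τ⁻¹ = (Wd.e 0)⁻¹ * D.F.j 0 1 := by
      rw [wide_acts D Wd hτ, if_pos rfl, show pi0 0 = 1 by decide +kernel, Wd.diff, inv_mul_cancel_left]
    obtain ⟨v, hv⟩ : ∃ v, τ * (x * Wd.e 0 ^ k) * τ⁻¹ = v ∧ v ∈ D.F.J :=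
      ⟨_, rfl, (mem_normalizer_iff.1 hτ.mem _).1 hk⟩
    have hc : Commute (Wd.e 0)⁻¹ (D.F.j 0 1) := cj_comm D Wd (inv_mem (e_mem D Wd 0))
      (mem_centralizer_iff.2 fun u hu => (frame_commute hu (j_mem D.F _ _)).eq)
    have e1 : v = x * (Wd.e 0 ^ (-k) * D.F.j 0 1 ^ k) := by
      rw [← hv.1, ← conj_mul, ← conj_zpow, he, hxt.eq, mul_inv_cancel_right, hc.mul_zpow, inv_zpow, zpow_neg]
    have h2 : Wd.e 0 ^ (2 * k) ∈ D.F.J := by
      have h3 : Wd.e 0 ^ (-k) * Wd.e 0 ^ (-k) ∈ D.F.J := by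
        have h4 := mul_mem (inv_mem hk) (mul_mem hv.2 (inv_mem (zpow_mem (j_mem D.F 0 1) k)))
        rwa [e1, mul_assoc x, mul_inv_cancel_right, mul_inv_rev, ← mul_assoc, inv_mul_cancel_right,
          ← zpow_neg] at h4
      rw [show 2 * k = -(-k + -k) by ring, zpow_neg, zpow_add]
      exact inv_mem h3
    have h3 : Wd.e 0 ^ (3 : ℤ) = 1 := (zpow_natCast _ 3).trans (Wd.cube 0)
    have hk3 : (3 : ℤ) ∣ k := by
      by_contra hd
      refine e0_not_J D Wd ?_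
      rcases (show k % 3 = 1 ∨ k % 3 = 2 by omega) with e | e
      · have h5 : Wd.e 0 ^ (2 * (2 * k)) ∈ D.F.J := by rw [two_mul (2 * k), zpow_add]; exact mul_mem h2 h2
        rwa [show 2 * (2 * k) = 3 * (k + k / 3) + 1 by omega, zpow_add, zpow_mul, h3, one_zpow, one_mul,
          zpow_one] at h5
      · rwa [show 2 * k = 3 * (2 * (k / 3) + 1) + 1 by omega, zpow_add, zpow_mul, h3, one_zpow, one_mul,
          zpow_one] at h2
    obtain ⟨l, rfl⟩ := hk3
    rwa [zpow_mul, h3, one_zpow, mul_one] at hk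
  · rwa [D.narrow h] at hx

omit hH in
/-- The part of the frame centralised by the negative involution. -/
theorem mem_jtau {τ : G} (hτ : Acts D τ pi0 true) {x : G} :
    x ∈ D.F.J ⊓ centralizer ({τ} : Set G) ↔ ∃ a b c, x = el D.F (jv a b c) := by
  constructor
  · rintro ⟨hx, hxt⟩
    obtain ⟨v, hv, rfl⟩ := el_surj D.F hx
    have hs := (hτ.commute_iff hv).1 (mem_centralizer_singleton_iff.1 hxt : Commute (el D.F v) τ).symm
    have key : ∀ v : V6, Same (sv pi0 true v) v → ∃ a b c, Same v (jv a b c) := by decide +kernel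
    obtain ⟨a, b, c, h⟩ := key v hs
    exact ⟨a, b, c, (el_eq_iff D.F hv (wsum_jv _ _ _)).2 h⟩
  · rintro ⟨a, b, c, rfl⟩
    refine ⟨el_mem _ _, mem_centralizer_singleton_iff.2 ((hτ.commute_iff (wsum_jv a b c)).2 ?_).symm.eq⟩
    revert a b c
    decide +kernel

omit hH in
theorem card_jtau {τ : G} (hτ : Acts D τ pi0 true) :
    Nat.card ↥(D.F.J ⊓ centralizer ({τ} : Set G) : Subgroup G) = 27 := by
  classical
  let f : ZMod 3 × ZMod 3 × ZMod 3 → ↥(D.F.J ⊓ centralizer ({τ} : Set G) : Subgroup G) := fun p =>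
    ⟨el D.F (jv p.1 p.2.1 p.2.2), (mem_jtau D hτ).2 ⟨_, _, _, rfl⟩⟩
  have key : ∀ p q : ZMod 3 × ZMod 3 × ZMod 3,
      Same (jv p.1 p.2.1 p.2.2) (jv q.1 q.2.1 q.2.2) → p = q := by decide +kernel
  have hf : Function.Bijective f := by
    refine ⟨fun p q e => key p q ((el_eq_iff D.F (wsum_jv _ _ _) (wsum_jv _ _ _)).1 (congrArg Subtype.val e)),
      fun x => ?_⟩
    obtain ⟨a, b, c, h⟩ := (mem_jtau D hτ).1 x.2
    exact ⟨(a, b, c), Subtype.ext h.symm⟩
  rw [← Nat.card_eq_of_bijective f hf, Nat.card_prod, Nat.card_prod, Nat.card_zmod]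

end Cfsg.Agent.U62Three.D
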