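import Cfsg.Agent.U62Three.D.Coset

/-!
# PSU₆(2) from a centraliser of order three: the Sylow 3-subgroup in the wide case

`S = C(J) Q` has order `3⁷`, is a Sylow subgroup, and `C(J)` is weakly closed in it.
-/

set_option autoImplicit false
set_option linter.unusedSectionVars false

open Subgroup

namespace Cfsg.Agent.U62Three.D

open K

variable {G : Type*} [Group G] [Finite G] {z : G} {Q : Subgroup G}

instance fact_three : Fact (Nat.Prime 3) := ⟨Nat.prime_three⟩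

theorem card_eq_inf_mul (X Y : Subgroup G) : Nat.card ↥X = Nat.card ↥(Y ⊓ X) * Y.relIndex X := by
  rw [← inf_relIndex_right, relIndex,
    ← Nat.card_congr (subgroupOfEquivOfLe (inf_le_right : Y ⊓ X ≤ X)).toEquiv, card_mul_index]

variable (hH : Hyp z Q) (D : Facts z Q) (Wd : Wide D.F)

include hH

/-- An abelian subgroup of `Q` has order at most 27. -/
theorem abelian_le {A : Subgroup G} (hA : A ≤ Q) (hc : ∀ a ∈ A, ∀ b ∈ A, Commute a b) :
    Nat.card ↥A ≤ 27 := by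
  classical
  have hp : IsPGroup 3 ↥Q := IsPGroup.of_card (n := 5) (by rw [hH.card])
  obtain ⟨n, hn⟩ := IsPGroup.iff_card.1 (hp.to_le hA)
  have h27 : n ≤ 3 → Nat.card ↥A ≤ 27 := fun h => by
    rw [hn]; exact (Nat.pow_le_pow_right (by norm_num) h).trans (le_of_eq rfl)
  by_contra hlt
  have h4 : 4 ≤ n := by by_contra h; exact hlt (h27 (by omega))
  have hA81 : 81 ≤ Nat.card ↥A := by
    rw [hn]; exact (show (81 : ℕ) = 3 ^ 4 from rfl) ▸ Nat.pow_le_pow_right (by norm_num) h4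
  have hne : A ≠ Q := fun e => by
    have hzc : centralizer (Q : Set G) ≤ zpowers z := cent_Q_le hH
    have hQz : Q ≤ zpowers z := fun q hq =>
      hzc (mem_centralizer_iff.2 fun y hy => (hc y (e.ge hy) q (e.ge hq)).eq)
    have h1 := Nat.le_of_dvd Nat.card_pos (card_dvd_of_le hQz)
    rw [hH.card, Nat.card_zpowers, hH.oz] at h1
    norm_num at h1
  obtain ⟨q, hq, hqA⟩ := SetLike.exists_of_lt (lt_of_le_of_ne hA hne)
  -- the pairing with `q`
  let f : ↥A →* ↥(zpowers z) :=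
    { toFun := fun a => ⟨q * a.1 * q⁻¹ * a.1⁻¹, comm_mem_z hH hq (hA a.2)⟩
      map_one' := Subtype.ext (by simp)
      map_mul' := fun a b => Subtype.ext (by
        show q * (a.1 * b.1) * q⁻¹ * (a.1 * b.1)⁻¹ = (q * a.1 * q⁻¹ * a.1⁻¹) * (q * b.1 * q⁻¹ * b.1⁻¹)
        exact comm_mul_right hH hq (hA a.2) (hA b.2)) }
  have hsup : A ⊔ zpowers q = Q := by
    refine eq_of_le_of_card_ge (sup_le hA (zpowers_le.2 hq)) ?_
    obtain ⟨m, hm⟩ := IsPGroup.iff_card.1 (hp.to_le (sup_le hA (zpowers_le.2 hq) : A ⊔ zpowers q ≤ Q))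
    have hlt' : Nat.card ↥A < Nat.card ↥(A ⊔ zpowers q : Subgroup G) := by
      refine lt_of_le_of_ne (Nat.le_of_dvd Nat.card_pos (card_dvd_of_le le_sup_left)) fun e => ?_
      exact hqA ((eq_of_le_of_card_ge le_sup_left e.ge).ge (mem_sup_right (mem_zpowers q)))
    rw [hH.card, hm]
    rw [hn, hm] at hlt'
    exact Nat.pow_le_pow_right (by norm_num)
      (by have := (Nat.pow_lt_pow_iff_right (by norm_num : 1 < 3)).1 hlt'; omega)
  have hker : Nat.card ↥f.ker ≤ 3 := by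
    have : ∀ a : ↥f.ker, (a : ↥A).1 ∈ zpowers z := fun a => by
      refine cent_Q_le hH ?_
      have hle : A ⊔ zpowers q ≤ centralizer ({(a : ↥A).1} : Set G) := sup_le
        (fun b hb => mem_centralizer_singleton_iff.2 (hc b hb _ (a : ↥A).2).eq)
        (zpowers_le.2 (mem_centralizer_singleton_iff.2 (by
          have h := congrArg Subtype.val (MonoidHom.mem_ker.1 a.2)
          change q * (a : ↥A).1 * q⁻¹ * (a : ↥A).1⁻¹ = 1 at h
          exact mul_inv_eq_iff_eq_mul.1 (mul_inv_eq_one.1 h))))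
      rw [hsup] at hle
      exact mem_centralizer_iff.2 fun y hy => mem_centralizer_singleton_iff.1 (hle hy)
    refine (Nat.card_le_card_of_injective (fun a : ↥f.ker => (⟨_, this a⟩ : ↥(zpowers z)))
      fun a b e => Subtype.ext (Subtype.ext (congrArg (Subtype.val : ↥(zpowers z) → G) e :))).trans ?_
    rw [card_zz hH]
  have hr : Nat.card ↥f.range ≤ 3 := (Nat.le_of_dvd Nat.card_pos (card_subgroup_dvd_card _)).trans
    (card_zz hH).le
  have : Nat.card ↥A ≤ 9 := by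
    rw [f.ker.card_eq_card_quotient_mul_card_subgroup,
      Nat.card_congr (QuotientGroup.quotientKerEquivRange f).toEquiv]
    exact (Nat.mul_le_mul hr hker).trans (le_of_eq rfl)
  omega

include Wd

theorem cj_inf_Q_le : centralizer (D.F.J : Set G) ⊓ Q ≤ JQ D := fun _ hx =>
  ⟨D.centQ _ hx.2 (mem_centralizer_iff.1 hx.1 _ (y0_J D)).symm, hx.2⟩

theorem cj_norm_Q : centralizer (D.F.J : Set G) ≤ normalizer (Q : Set G) :=
  fun _ hw => hH.normal (cj_cz D hw)

omit hH Wd in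
/-- `C(J) Q`. -/
def syl (z : G) (Q : Subgroup G) (D : Facts z Q) : Subgroup G := centralizer (D.F.J : Set G) ⊔ Q

theorem syl_le_cz : syl z Q D ≤ centralizer ({z} : Set G) := sup_le (fun _ hw => cj_cz D hw) hH.le

theorem syl_le_norm : syl z Q D ≤ normalizer (Q : Set G) := (syl_le_cz hH D Wd).trans hH.normal

theorem syl_split {s : G} (hs : s ∈ syl z Q D) :
    ∃ c ∈ centralizer (D.F.J : Set G), ∃ q ∈ Q, s = c * q := by
  have hs' : s ∈ (↑(centralizer (D.F.J : Set G) ⊔ Q) : Set G) := hs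
  rw [coe_mul_of_left_le_normalizer_right _ _ (cj_norm_Q hH D Wd)] at hs'
  obtain ⟨c, hc, q, hq, e⟩ := hs'
  exact ⟨c, hc, q, hq, e.symm⟩

theorem syl_isPGroup : IsPGroup 3 ↥(syl z Q D) :=
  D.centJ.to_sup_of_normal_right' (IsPGroup.of_card (n := 5) (by rw [hH.card])) (cj_norm_Q hH D Wd)

theorem syl_card : Nat.card ↥(syl z Q D) = 3 ^ 7 ∧ Q.relIndex (syl z Q D) = 9 := by
  set S := syl z Q D
  obtain ⟨n, hn⟩ := IsPGroup.iff_card.1 (syl_isPGroup hH D Wd)
  have h7 : n ≤ 7 := by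
    have h := (card_dvd_of_le (syl_le_cz hH D Wd)).trans D.dvd
    rw [hn, show 3 ^ 5 * 2 ^ 7 * 3 ^ 2 = 3 ^ 7 * 2 ^ 7 by norm_num] at h
    exact (Nat.pow_dvd_pow_iff_le_right (by norm_num)).1
      ((Nat.Coprime.pow _ _ (by norm_num : Nat.Coprime 3 2)).dvd_of_dvd_mul_right h)
  have hSQ : Nat.card ↥S = 243 * Q.relIndex S := by
    rw [card_eq_inf_mul S Q, inf_eq_left.2 (show Q ≤ S from le_sup_right), hH.card]; rfl
  have h9 : 9 ≤ Q.relIndex S := by
    have h1 := card_eq_inf_mul (centralizer (D.F.J : Set G)) Q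
    rw [Wd.card] at h1
    have h2 : Nat.card ↥(Q ⊓ centralizer (D.F.J : Set G) : Subgroup G) ≤ 27 :=
      (Nat.le_of_dvd Nat.card_pos (card_dvd_of_le (inf_comm Q _ ▸ cj_inf_Q_le hH D Wd))).trans (card_JQ D hH)
    have h3 : Q.relIndex (centralizer (D.F.J : Set G)) ≤ Q.relIndex S :=
      relIndex_le_of_le_right le_sup_left (fun e => by rw [e, mul_zero] at hSQ; exact Nat.card_pos.ne' hSQ)
    nlinarith
  have hle : Nat.card ↥S ≤ 3 ^ 7 := by rw [hn]; exact Nat.pow_le_pow_right (by norm_num) h7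
  constructor <;> nlinarith

/-- A conjugate of `C(J)` in `C(J) Q` is `C(J)`. -/
theorem weakly_closed {x : G} (h : ∀ w ∈ centralizer (D.F.J : Set G), x⁻¹ * w * x ∈ syl z Q D) :
    x ∈ normalizer (centralizer (D.F.J : Set G) : Set G) := by
  set C := centralizer (D.F.J : Set G) with hC
  set W' := C.map (MulAut.conj x⁻¹).toMonoidHom
  have hmem : ∀ u, u ∈ W' → ∃ w ∈ C, u = x⁻¹ * w * x := by
    rintro _ ⟨w, hw, rfl⟩
    exact ⟨w, hw, by simp⟩
  have hW'S : W' ≤ syl z Q D := fun u hu => by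
    obtain ⟨w, hw, rfl⟩ := hmem u hu
    exact h w hw
  have hW'c : ∀ a ∈ W', ∀ b ∈ W', Commute a b := fun a ha b hb => by
    obtain ⟨a', ha', rfl⟩ := hmem a ha
    obtain ⟨b', hb', rfl⟩ := hmem b hb
    simpa [MulAut.conj_apply] using (cj_comm D Wd ha' hb').map (MulAut.conj x⁻¹).toMonoidHom
  have hW'card : Nat.card ↥W' = 243 := by
    rw [card_map_of_injective (MulAut.conj x⁻¹).injective, Wd.card]
  obtain ⟨hScard, hS9⟩ := syl_card hH D Wd
  have h1 := card_eq_inf_mul W' Q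
  rw [hW'card] at h1
  have h27 := abelian_le hH (inf_le_left : Q ⊓ W' ≤ Q) fun a ha b hb => hW'c a ha.2 b hb.2
  have hr : Q.relIndex W' ≤ 9 := hS9 ▸ relIndex_le_of_le_right hW'S (by rw [hS9]; norm_num)
  have hr9 : Q.relIndex W' = 9 := by nlinarith
  have hi27 : Nat.card ↥(Q ⊓ W' : Subgroup G) = 27 := by rw [hr9] at h1; omega
  -- `W' Q` is everything
  have hWn : W' ≤ normalizer (Q : Set G) := hW'S.trans (syl_le_norm hH D Wd)
  have hY : W' ⊔ Q = syl z Q D := by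
    refine eq_of_le_of_card_ge (sup_le hW'S le_sup_right) ?_
    rw [hScard, card_eq_inf_mul (W' ⊔ Q) Q, inf_eq_left.2 (le_sup_right : Q ≤ W' ⊔ Q), hH.card]
    have h2 : Q.relIndex W' ≤ Q.relIndex (W' ⊔ Q) := relIndex_le_of_le_right le_sup_left (fun e => by
      have := card_eq_inf_mul (W' ⊔ Q) Q
      rw [e, mul_zero] at this
      exact Nat.card_pos.ne' this)
    calc 3 ^ 7 = 3 ^ 5 * 9 := by norm_num
      _ ≤ _ := Nat.mul_le_mul_left _ (hr9 ▸ h2)
  have hy : y0 D ∈ (↑(W' ⊔ Q) : Set G) :=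
    hY.ge (mem_sup_left (mem_centralizer_iff.2 fun u hu => (frame_commute hu (y0_J D)).eq))
  rw [coe_mul_of_left_le_normalizer_right _ _ hWn] at hy
  obtain ⟨w', hw', q, hq, e⟩ := hy
  change w' * q = y0 D at e
  have hJQ : Q ⊓ W' ≤ JQ D := fun u hu => by
    refine ⟨comm_y0_mem hH D hu.1 ?_, hu.1⟩
    have hc := comm_mem_z hH hu.1 hq
    have h2 : u * y0 D * u⁻¹ * (y0 D)⁻¹ = w' * (u * q * u⁻¹ * q⁻¹) * w'⁻¹ := by
      rw [← e]
      calc u * (w' * q) * u⁻¹ * (w' * q)⁻¹ = (u * w') * q * u⁻¹ * q⁻¹ * w'⁻¹ := by group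
        _ = _ := by rw [(hW'c u hu.2 w' hw').eq]; group
    have hwz : w' ∈ centralizer ({z} : Set G) := syl_le_cz hH D Wd (hW'S hw')
    obtain ⟨k, hk⟩ := mem_zpowers_iff.1 hc
    have hwz' : Commute w' z := mem_centralizer_singleton_iff.1 hwz
    rw [← hk, (hwz'.zpow_right k).eq, mul_inv_cancel_right, hk] at h2
    have := inv_mem (h2 ▸ hc : u * y0 D * u⁻¹ * (y0 D)⁻¹ ∈ zpowers z)
    rwa [show (u * y0 D * u⁻¹ * (y0 D)⁻¹)⁻¹ = y0 D * u * (y0 D)⁻¹ * u⁻¹ by group] at this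
  have hJQeq : Q ⊓ W' = JQ D := eq_of_le_of_card_ge hJQ ((card_JQ D hH).trans hi27.ge)
  have hj : ∀ {a b : Fin 6}, D.F.j a b ∈ Q → D.F.j a b ∈ W' := fun {a b} hab =>
    (hJQeq.ge (⟨j_mem D.F a b, hab⟩ : _ ∈ JQ D)).2
  have hle : W' ≤ C := fun u hu =>
    cent_JQ D hH (syl_le_cz hH D Wd (hW'S hu)) (hW'c u hu _ (hj (D.le 0 D.j_zero.1)))
      (hW'c u hu _ (hj (D.le 1 D.j_one.1)))
  have hx : x⁻¹ ∈ normalizer (C : Set G) := Subgroup.mem_normalizer_fintype fun w hw => by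
    have := hle (show x⁻¹ * w * x⁻¹⁻¹ ∈ W' from ⟨w, hw, by simp⟩)
    exact this
  exact inv_inv x ▸ inv_mem hx

/-- `C(J) Q` is a Sylow subgroup. -/
theorem syl_index : ¬ 3 ∣ (syl z Q D).index := by
  set S := syl z Q D
  obtain ⟨P, hP⟩ := (syl_isPGroup hH D Wd).exists_le_sylow
  have : Nontrivial ↥(P : Subgroup G) := by
    rw [Subgroup.nontrivial_iff_ne_bot]
    intro e
    have := card_dvd_of_le hP
    rw [(syl_card hH D Wd).1, e, card_bot] at this
    exact absurd (Nat.le_of_dvd one_pos this) (by norm_num)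
  have := P.2.center_nontrivial
  obtain ⟨⟨c, hc⟩, hc1⟩ := exists_ne (1 : ↥(center ↥(P : Subgroup G)))
  have hcz : (c : G) ∈ zpowers z := cent_Q_le hH (mem_centralizer_iff.2 fun q hq =>
    congrArg Subtype.val (mem_center_iff.1 hc ⟨q, hP (mem_sup_right hq)⟩))
  have hc1' : (c : G) ≠ 1 := fun e => hc1 (Subtype.ext (Subtype.ext e))
  have hzc : z ∈ zpowers (c : G) := by
    rw [eq_of_le_of_card_ge (zpowers_le.2 hcz) ?_]
    · exact mem_zpowers z
    rw [Nat.card_zpowers, Nat.card_zpowers, hH.oz]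
    have hd : orderOf (c : G) ∣ 3 := orderOf_dvd_of_pow_eq_one (D.cube _ (zpowers_le.2 (z_mem hH) hcz))
    rcases (Nat.dvd_prime Nat.prime_three).1 hd with e | e
    · exact absurd (orderOf_eq_one_iff.1 e) hc1'
    · exact e.ge
  have hPz : (P : Subgroup G) ≤ centralizer ({z} : Set G) := fun p hp => by
    obtain ⟨k, hk⟩ := mem_zpowers_iff.1 hzc
    refine mem_centralizer_singleton_iff.2 ?_
    have h1 : Commute p (c : G) := congrArg Subtype.val (mem_center_iff.1 hc ⟨p, hp⟩)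
    rw [← hk]; exact (h1.zpow_right k).eq
  obtain ⟨n, hn⟩ := IsPGroup.iff_card.1 P.2
  have hn7 : n ≤ 7 := by
    have h := (card_dvd_of_le hPz).trans D.dvd
    rw [hn, show 3 ^ 5 * 2 ^ 7 * 3 ^ 2 = 3 ^ 7 * 2 ^ 7 by norm_num] at h
    exact (Nat.pow_dvd_pow_iff_le_right (by norm_num)).1
      ((Nat.Coprime.pow _ _ (by norm_num : Nat.Coprime 3 2)).dvd_of_dvd_mul_right h)
  have he : S = (P : Subgroup G) := eq_of_le_of_card_ge hP (by
    rw [(syl_card hH D Wd).1, hn]; exact Nat.pow_le_pow_right (by norm_num) hn7)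
  rw [he]
  exact P.not_dvd_index

end Cfsg.Agent.U62Three.D
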