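import Cfsg.Agent.U62Three.D.Basic
import Cfsg.Agent.ONanTI.Main
import Cfsg.Agent.Layer.FStar
import Cfsg.Agent.S0283
import Mathlib.GroupTheory.SchurZassenhaus

/-!
# PSU₆(2) from a centraliser of order three: the statement from the normal form

The hypotheses on `H = C(Z)` give `Hyp z Q` for `Q = F*(H)`; a normal `PSU₆(2)` with trivial
centraliser is `F*(G)`.
-/

set_option autoImplicit false

open Subgroup

namespace Cfsg.Agent.U62Three.D

open Cfsg.Agent

universe u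

variable {G : Type u} [Group G] [Finite G]

theorem hyp_of_statement (Z H : Subgroup G) (hZ3 : Nat.card ↥Z = 3) (hH : H = centralizer (Z : Set G))
    (hQ : IsExtraspecial 3 ↥(generalizedFittingSubgroup ↥H))
    (hQord : Nat.card ↥(generalizedFittingSubgroup ↥H) = 3 ^ 5)
    (hZ : center ↥(generalizedFittingSubgroup ↥H) =
      (center ↥H).subgroupOf (generalizedFittingSubgroup ↥H))
    (hN : ∃ _ : (generalizedFittingSubgroup ↥H).Normal,
      ∃ N : Subgroup (↥H ⧸ generalizedFittingSubgroup ↥H), N.Normal ∧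
        Nonempty (↥N ≃* QuaternionGroup 2 × QuaternionGroup 2))
    (hwc : IsWeaklyClosed Z ((generalizedFittingSubgroup ↥H).map H.subtype))
    (hnwc : ¬ IsWeaklyClosed Z H) :
    ∃ z : G, Hyp z ((generalizedFittingSubgroup ↥H).map H.subtype) := by
  haveI : Fact (Nat.Prime 3) := ⟨Nat.prime_three⟩
  haveI : Fact (Nat.Prime 2) := ⟨Nat.prime_two⟩
  obtain ⟨⟨z, hzZ⟩, hgen⟩ := (isCyclic_of_prime_card hZ3).exists_generator
  have hzp : Z = zpowers z := by
    refine le_antisymm (fun a ha => ?_) (zpowers_le.2 hzZ)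
    obtain ⟨k, hk⟩ := mem_zpowers_iff.1 (hgen ⟨a, ha⟩)
    exact mem_zpowers_iff.2 ⟨k, congrArg Subtype.val hk⟩
  subst hzp
  have hoz : orderOf z = 3 := by rw [← Nat.card_zpowers, hZ3]
  have hHz : H = centralizer ({z} : Set G) := by rw [hH, zpowers_eq_closure, centralizer_closure]
  set Qh := generalizedFittingSubgroup ↥H with hQh
  set Q := Qh.map H.subtype with hQdef
  have hQH : Q ≤ H := map_subtype_le Qh
  have hzQ : z ∈ Q := hwc.1 (mem_zpowers z)
  have hcard : Nat.card ↥Q = 3 ^ 5 := by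
    rw [← hQord, Nat.card_congr (equivMapOfInjective Qh _ H.subtype_injective).toEquiv]
  have hext : IsExtraspecial 3 ↥Q :=
    LargeExtra.extraspecial_congr (equivMapOfInjective Qh _ H.subtype_injective) hQ
  have hcentre : (center ↥Q).map Q.subtype = zpowers z := by
    symm
    refine Subgroup.eq_of_le_of_card_ge (zpowers_le.2 ⟨⟨z, hzQ⟩, mem_center_iff.2 fun q => Subtype.ext ?_,
      rfl⟩) ?_
    · have := hQH q.2
      rw [hHz, mem_centralizer_singleton_iff] at this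
      exact this
    · rw [Nat.card_zpowers, hoz, ← Nat.card_congr (equivMapOfInjective _ _ Q.subtype_injective).toEquiv,
        hext.2]
  obtain ⟨hn, N, hNn, ⟨eN⟩⟩ := hN
  have hnorm : centralizer ({z} : Set G) ≤ normalizer (Q : Set G) := by
    rw [← hHz]
    intro g hg
    refine mem_normalizer_iff.2 fun x => ⟨?_, ?_⟩
    · rintro ⟨q, hq, rfl⟩
      exact ⟨⟨g, hg⟩ * q * ⟨g, hg⟩⁻¹, hn.conj_mem q hq _, rfl⟩
    · rintro ⟨q, hq, e⟩
      refine ⟨⟨g, hg⟩⁻¹ * q * ⟨g, hg⟩⁻¹⁻¹, hn.conj_mem q hq _, ?_⟩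
      simp only [map_mul, map_inv, coe_subtype] at e ⊢
      rw [e]; group
  have hself : centralizer (Q : Set G) ≤ Q := by
    intro x hx
    have hxH : x ∈ H := by
      rw [hHz, mem_centralizer_singleton_iff]
      exact (mem_centralizer_iff.1 hx z hzQ).symm
    exact ⟨⟨x, hxH⟩, Layer.centralizer_generalizedFitting_le
      (mem_centralizer_iff.2 fun q hq => Subtype.ext (mem_centralizer_iff.1 hx q ⟨q, hq, rfl⟩)), rfl⟩
  -- a complement in the preimage of `N`
  set M := N.comap (QuotientGroup.mk' Qh) with hM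
  obtain ⟨P₀⟩ : Nonempty (Sylow 2 ↥M) := inferInstance
  set P := ((P₀ : Subgroup ↥M).map M.subtype).map H.subtype with hP
  have hcN : Nat.card ↥N = 64 := by
    rw [Nat.card_congr eN.toEquiv, Nat.card_prod, Nat.card_eq_fintype_card, QuaternionGroup.card]
  have hQM : Qh ≤ M := fun x hx => by
    show QuotientGroup.mk' Qh x ∈ N
    rw [(QuotientGroup.eq_one_iff x).2 hx |> fun h => (h : QuotientGroup.mk' Qh x = 1)]
    exact one_mem N
  let f : ↥M →* ↥N := ((QuotientGroup.mk' Qh).comp M.subtype).codRestrict N fun m => m.2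
  have hfs : Function.Surjective f := fun n => by
    obtain ⟨m, hm⟩ := QuotientGroup.mk'_surjective Qh n.1
    exact ⟨⟨m, show QuotientGroup.mk' Qh m ∈ N by rw [hm]; exact n.2⟩, Subtype.ext hm⟩
  have hfk : f.ker = Qh.subgroupOf M := by
    ext m
    rw [MonoidHom.mem_ker, mem_subgroupOf, Subtype.ext_iff]
    exact QuotientGroup.eq_one_iff (m : ↥H)
  have hcM : Nat.card ↥M = 64 * 3 ^ 5 := by
    rw [f.ker.card_eq_card_quotient_mul_card_subgroup,
      Nat.card_congr (QuotientGroup.quotientKerEquivOfSurjective f hfs).toEquiv, hcN, hfk,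
      Nat.card_congr (subgroupOfEquivOfLe hQM).toEquiv, hQord]
  have hcP : Nat.card ↥(P₀ : Subgroup ↥M) = 64 := by
    rw [P₀.card_eq_multiplicity, hcM, Nat.factorization_mul (by norm_num) (by norm_num),
      Finsupp.add_apply, show (64 : ℕ) = 2 ^ 6 by norm_num, Nat.prime_two.factorization_pow,
      Finsupp.single_eq_same, Nat.factorization_eq_zero_of_not_dvd (n := 3 ^ 5) (by norm_num)]
  have hinj : Function.Injective (f.comp (P₀ : Subgroup ↥M).subtype) := by
    rw [← MonoidHom.ker_eq_bot_iff, eq_bot_iff]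
    intro p hp
    rw [MonoidHom.mem_ker, MonoidHom.comp_apply, ← MonoidHom.mem_ker, hfk] at hp
    have h1 : orderOf (((p : ↥M) : ↥H)) ∣ 3 ^ 5 := by
      rw [← hQord]
      have := orderOf_dvd_natCard (⟨_, mem_subgroupOf.1 hp⟩ : ↥Qh)
      rwa [Subgroup.orderOf_mk] at this
    have h2 : orderOf (((p : ↥M) : ↥H)) ∣ 2 ^ 6 := by
      rw [Subgroup.orderOf_coe, Subgroup.orderOf_coe, show (2 : ℕ) ^ 6 = 64 by norm_num, ← hcP]
      exact orderOf_dvd_natCard _
    have h3 := Nat.eq_one_of_dvd_coprimes (Nat.Coprime.pow 5 6 (by norm_num : Nat.Coprime 3 2)) h1 h2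
    rw [orderOf_eq_one_iff] at h3
    rw [mem_bot]
    exact Subtype.ext (Subtype.ext h3)
  let eP : ↥(P₀ : Subgroup ↥M) ≃* ↥N := MulEquiv.ofBijective (f.comp (P₀ : Subgroup ↥M).subtype)
    ((Nat.bijective_iff_injective_and_card _).2 ⟨hinj, by rw [hcP, hcN]⟩)
  have eP' : ↥P ≃* ↥(P₀ : Subgroup ↥M) :=
    ((equivMapOfInjective _ _ M.subtype_injective).trans (equivMapOfInjective _ _ H.subtype_injective)).symm
  have hQP : Q ⊔ P = M.map H.subtype := by
    rw [hQdef, hP, ← Subgroup.map_sup]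
    congr 1
    refine le_antisymm (sup_le hQM (map_subtype_le _)) fun m hm => ?_
    obtain ⟨p, hp⟩ := eP.surjective (f ⟨m, hm⟩)
    have hk : (p : ↥M)⁻¹ * ⟨m, hm⟩ ∈ f.ker := by
      rw [MonoidHom.mem_ker, map_mul, map_inv]
      exact inv_mul_eq_one.2 hp
    rw [hfk, mem_subgroupOf] at hk
    rw [show m = ((p : ↥M) : ↥H) * (((p : ↥M) : ↥H)⁻¹ * m) by group]
    exact mul_mem (mem_sup_right ⟨p, p.2, rfl⟩) (mem_sup_left hk)
  refine ⟨z, hoz, hext, hcard, hHz ▸ hQH, hcentre, hnorm, hself, ⟨P, ?_, ⟨(eP'.trans eP).trans eN⟩, ?_⟩,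
    ?_, ?_⟩
  · rw [← hHz]; exact map_subtype_le _
  · rw [hQP, ← hHz]
    have hMn : M.Normal := hNn.comap _
    intro g hg
    refine mem_normalizer_iff.2 fun x => ⟨?_, ?_⟩
    · rintro ⟨m, hm, rfl⟩
      exact ⟨⟨g, hg⟩ * m * ⟨g, hg⟩⁻¹, hMn.conj_mem m hm _, rfl⟩
    · rintro ⟨m, hm, e⟩
      refine ⟨⟨g, hg⟩⁻¹ * m * ⟨g, hg⟩⁻¹⁻¹, hMn.conj_mem m hm _, ?_⟩
      simp only [map_mul, map_inv, coe_subtype] at e ⊢
      rw [e]; group
  · intro g hg
    have hle : (zpowers z).map (MulAut.conj g).toMonoidHom ≤ Q := by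
      rw [MonoidHom.map_zpowers]; exact zpowers_le.2 hg
    rw [← hwc.2 g hle, MonoidHom.map_zpowers]
    exact mem_zpowers _
  · rw [← hHz]
    by_contra hc
    push Not at hc
    refine hnwc ⟨(zpowers_le.2 (hQH hzQ)), fun g hg => hwc.2 g ?_⟩
    rw [MonoidHom.map_zpowers] at hg ⊢
    exact zpowers_le.2 (hc g (zpowers_le.1 hg))

theorem fstar_eq {G₀ : Subgroup G} [G₀.Normal] {F₄ : Type} [Field F₄] [Fintype F₄]
    (hF : Fintype.card F₄ = 4) (e : ↥G₀ ≃* PSU 6 F₄ 2) (hc : centralizer (G₀ : Set G) = ⊥) :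
    generalizedFittingSubgroup G = G₀ := by
  haveI : IsSimpleGroup (PSU 6 F₄ 2) :=
    S0283.result (q := 2) (by rw [hF]; norm_num) 6 (by norm_num) (by omega)
  exact ONanTI.generalizedFitting_eq G₀ e.isSimpleGroup hc

/-- The conclusion goes up from a normal subgroup containing `Q`. -/
theorem concl_of_normal {z : G} {Q : Subgroup G} (hH : Hyp z Q) {N : Subgroup G} [N.Normal] (hQ : Q ≤ N)
    (h : Concl ↥N) : Concl G := by
  obtain ⟨G₀, F₄, i1, i2, hn, hF, ⟨e⟩, hc⟩ := h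
  have hfs := fstar_eq hF e hc
  have hchar : G₀.Characteristic := hfs ▸ inferInstance
  have hn' : (G₀.map N.subtype).Normal := inferInstance
  refine ⟨G₀.map N.subtype, F₄, i1, i2, hn', hF,
    ⟨(equivMapOfInjective G₀ _ N.subtype_injective).symm.trans e⟩, ?_⟩
  rw [eq_bot_iff, ← centralizer_eq_bot hH hQ]
  intro c hc'
  refine mem_centralizer_iff.2 fun n hn => ?_
  have hCn : (centralizer ((G₀.map N.subtype : Subgroup G) : Set G)).Normal := normal_centralizer
  have h1 : n * c * n⁻¹ * c⁻¹ ∈ centralizer ((G₀.map N.subtype : Subgroup G) : Set G) :=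
    mul_mem (hCn.conj_mem c hc' n) (inv_mem hc')
  have h2 : n * c * n⁻¹ * c⁻¹ ∈ N := by
    rw [show n * c * n⁻¹ * c⁻¹ = n * (c * n⁻¹ * c⁻¹) by group]
    exact mul_mem hn ((inferInstance : N.Normal).conj_mem _ (inv_mem hn) c)
  have h3 : (⟨_, h2⟩ : ↥N) ∈ centralizer (G₀ : Set ↥N) :=
    mem_centralizer_iff.2 fun g hg => Subtype.ext (mem_centralizer_iff.1 h1 _ ⟨g, hg, rfl⟩)
  rw [hc, mem_bot] at h3
  exact mul_inv_eq_iff_eq_mul.1 (mul_inv_eq_one.1 (congrArg Subtype.val h3))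

end Cfsg.Agent.U62Three.D
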