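import Mathlib.GroupTheory.GroupAction.Quotient
import Mathlib.GroupTheory.PGroup
import Mathlib.Data.Set.Card
import Mathlib.Tactic.Ring

/-!
# Counting the conjugates of an involution

Two commuting involutions `t, u` with `C(t) = D × ⟨t, u⟩`-like, `D` of exponent three inverted by `u`, the
involution `t u` conjugate to `t` under `C(u)`, and an element of order three in `C(u)` centralising no other
involution there: then `9 |D|` divides the order of the group.
-/

set_option autoImplicit false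

open Subgroup

namespace Cfsg.Agent.U62Three.D

/-- In the dihedral group of two involutions with product of even order the middle power is central. -/
theorem exists_mid {X : Type*} [Group X] [Finite X] {a b : X} (ha : a * a = 1) (hb : b * b = 1)
    (hne : ¬ IsConj a b) :
    ∃ u ∈ zpowers (a * b), u * u = 1 ∧ u ≠ 1 ∧ Commute u a ∧ Commute u b := by
  set n := orderOf (a * b) with hn
  have hai : a⁻¹ = a := inv_eq_of_mul_eq_one_right ha
  have hbi : b⁻¹ = b := inv_eq_of_mul_eq_one_right hb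
  have hinv : ∀ k : ℕ, a * (a * b) ^ k * a = ((a * b) ^ k)⁻¹ := fun k => by
    have e : a * (a * b) * a⁻¹ = (a * b)⁻¹ := by
      rw [mul_inv_rev, hbi, hai, ← mul_assoc, ha, one_mul]
    calc a * (a * b) ^ k * a = a * (a * b) ^ k * a⁻¹ := by rw [hai]
      _ = (a * (a * b) * a⁻¹) ^ k := conj_pow.symm
      _ = _ := by rw [e, inv_pow]
  obtain ⟨m, hm | hm⟩ := Nat.even_or_odd' n
  · have hm0 : 0 < m := by
      have : 0 < n := orderOf_pos _
      omega
    set u := (a * b) ^ m with hu
    have hu2 : u * u = 1 := by rw [hu, ← pow_add, ← two_mul, ← hm, hn, pow_orderOf_eq_one]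
    have hu1 : u ≠ 1 := fun e => by
      have := Nat.le_of_dvd hm0 (orderOf_dvd_of_pow_eq_one e)
      omega
    have hui : u⁻¹ = u := inv_eq_of_mul_eq_one_right hu2
    have hua : Commute u a := by
      have h := hinv m
      rw [← hu, hui] at h
      show u * a = a * u
      calc u * a = a * u * a * a := by rw [h]
        _ = a * u := by rw [mul_assoc, ha, mul_one]
    refine ⟨u, pow_mem (mem_zpowers _) m, hu2, hu1, hua, ?_⟩
    have h2 : Commute u (a * b) := (Commute.refl (a * b)).pow_left m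
    have := hua.mul_right h2
    rwa [← mul_assoc, ha, one_mul] at this
  · exfalso
    refine hne (isConj_iff.2 ⟨(a * b) ^ m * a, ?_⟩)
    have h1 : (a * b) ^ (2 * m + 1) = 1 := by rw [← hm, hn, pow_orderOf_eq_one]
    have e : (a * b) ^ m * a * a * ((a * b) ^ m * a)⁻¹ = (a * b) ^ (2 * m) * a := by
      rw [mul_inv_rev, mul_assoc ((a * b) ^ m) a a, ha, mul_one, ← hinv m, hai, ← mul_assoc a, ← mul_assoc a,
        ha, one_mul, ← mul_assoc, ← pow_add, two_mul]
    rw [e]
    calc (a * b) ^ (2 * m) * a = (a * b) ^ (2 * m) * (a * b) * b := by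
          rw [mul_assoc, mul_assoc a, hb, mul_one]
      _ = b := by rw [← pow_succ, h1, one_mul]

open scoped Classical in
/-- The divisibility. -/
theorem nine_dvd {X : Type*} [Group X] [Finite X] {t u : X} (ht : t * t = 1) (ht1 : t ≠ 1) (hu : u * u = 1)
    (hu1 : u ≠ 1) (htu : Commute t u) (hne : ¬ IsConj t u) (D : Subgroup X) (hD : IsPGroup 3 ↥D)
    (hDt : ∀ d ∈ D, Commute t d) (hDu : ∀ d ∈ D, u * d * u = d⁻¹) (hD1 : D ≠ ⊥)
    (hcent : ∀ c, Commute t c → ∃ d ∈ D, c = d ∨ c = t * d ∨ c = u * d ∨ c = t * u * d)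
    {g : X} (hg : g * t * g⁻¹ = t * u)
    {y : X} (hy1 : y ≠ 1) (hy3 : y ^ 3 = 1) (hyu : Commute y u)
    (hy : ∀ s, s * s = 1 → s ≠ 1 → Commute s u → Commute s y → s = u) :
    9 * Nat.card ↥D ∣ Nat.card X := by
  have : Fact (Nat.Prime 3) := ⟨Nat.prime_three⟩
  have hti : t⁻¹ = t := inv_eq_of_mul_eq_one_right ht
  have hui : u⁻¹ = u := inv_eq_of_mul_eq_one_right hu
  obtain ⟨k, hk⟩ := IsPGroup.iff_card.1 hD
  have hk1 : k ≠ 0 := fun e => hD1 (Subgroup.card_eq_one.1 (by rw [hk, e, pow_zero]))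
  -- elements of `D` of order two are trivial
  have hD2 : ∀ d ∈ D, d * d = 1 → d = 1 := fun d hd h => by
    have h1 : orderOf d ∣ 2 := orderOf_dvd_of_pow_eq_one (by rw [pow_two, h])
    have h3 : orderOf d ∣ 3 ^ k := by rw [← hk, ← Subgroup.orderOf_mk d hd]; exact orderOf_dvd_natCard _
    exact orderOf_eq_one_iff.1 (Nat.eq_one_of_dvd_coprimes (Nat.Coprime.pow_right k (by norm_num)) h1 h3)
  have htnD : ∀ {c}, c ∈ D → t * c = c * t := fun hc => (hDt _ hc).eq
  have hud : ∀ d ∈ D, u * d = d⁻¹ * u := fun d hd => by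
    rw [← hDu d hd, mul_assoc (u * d), hu, mul_one]
  let K : Finset X := (Set.toFinite {x | IsConj u x}).toFinset
  have hK : ∀ x, x ∈ K ↔ IsConj u x := fun x => Set.Finite.mem_toFinset _
  have hKinv : ∀ {x}, x ∈ K → x * x = 1 ∧ x ≠ 1 := fun {x} hx => by
    obtain ⟨c, rfl⟩ := isConj_iff.1 ((hK x).1 hx)
    exact ⟨by rw [conj_mul, hu, mul_one, mul_inv_cancel], fun e => hu1 (conj_eq_one_iff.1 e)⟩
  have hKconj : ∀ {x} (c : X), x ∈ K → c * x * c⁻¹ ∈ K := fun {x} c hx =>
    (hK _).2 (((hK x).1 hx).trans (isConj_iff.2 ⟨c, rfl⟩))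
  have hK_t : ∀ {x}, IsConj t x → x ∉ K := fun {x} h hx => hne (h.trans ((hK x).1 hx).symm)
  -- halves in `D`
  have half : ∀ d ∈ D, ∃ e ∈ D, e * e = d := fun d hd => by
    obtain ⟨m, hm⟩ : ∃ m, 3 ^ k + 1 = 2 * m := ⟨(3 ^ k + 1) / 2, by
      have : Odd (3 ^ k) := Odd.pow (by decide)
      obtain ⟨j, hj⟩ := this
      omega⟩
    refine ⟨d ^ m, pow_mem hd m, ?_⟩
    rw [← pow_add, ← two_mul, ← hm, pow_succ, show d ^ 3 ^ k = 1 from ?_, one_mul]
    rw [← hk]
    exact congrArg Subtype.val (pow_card_eq_one' (x := (⟨d, hd⟩ : ↥D)))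
  have half_conj : ∀ d ∈ D, ∀ e ∈ D, e * e = d → e⁻¹ * u * e⁻¹⁻¹ = u * d ∧ e⁻¹ * (t * u) * e⁻¹⁻¹ = t * u * d := by
    intro d hd e he hed
    have h1 : e⁻¹ * u * e = u * d := by rw [← hud e he, mul_assoc, hed]
    refine ⟨by rw [inv_inv, h1], ?_⟩
    rw [inv_inv, ← mul_assoc, ← htnD (inv_mem he)]
    calc t * e⁻¹ * u * e = t * (e⁻¹ * u * e) := by group
      _ = _ := by rw [h1, mul_assoc]
  -- the involutions commuting with `t`
  have hA : ∀ x, x ∈ K → Commute t x → ∃ d ∈ D, x = u * d := by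
    intro x hx hc
    obtain ⟨d, hd, e | e | e | e⟩ := hcent x hc <;> subst e
    · exact absurd (hD2 _ hd (hKinv hx).1) (hKinv hx).2
    · have h := (hKinv hx).1
      rw [mul_assoc, ← mul_assoc d, ← htnD hd, mul_assoc t d, ← mul_assoc, ht, one_mul] at h
      exact absurd hx (hK_t (by rw [hD2 d hd h, mul_one]))
    · exact ⟨d, hd, rfl⟩
    · obtain ⟨e, he, hed⟩ := half d hd
      refine absurd hx (hK_t ?_)
      exact (isConj_iff.2 ⟨g, hg⟩).trans (isConj_iff.2 ⟨e⁻¹, (half_conj d hd e he hed).2⟩)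
  have hAu : ∀ d ∈ D, u * d ∈ K ∧ Commute t (u * d) := fun d hd => by
    obtain ⟨e, he, hed⟩ := half d hd
    exact ⟨(half_conj d hd e he hed).1 ▸ hKconj _ ((hK u).2 (IsConj.refl u)), htu.mul_right (hDt d hd)⟩
  -- the class inside `C(u)`
  let R : Finset X := K.filter fun x => Commute x u ∧ ¬ Commute t x
  have hR : ∀ {x}, x ∈ R ↔ x ∈ K ∧ Commute x u ∧ ¬ Commute t x := Finset.mem_filter
  -- where the middle involution lies
  have hmid : ∀ {x}, x ∈ K → ¬ Commute t x →
      ∃ d ∈ D, Commute x (u * d) ∨ Commute x (t * u * d) := fun {x} hx hc => by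
    obtain ⟨w, -, hw2, hw1, hwt, hwx⟩ := exists_mid ht (hKinv hx).1 (fun h => hK_t h hx)
    obtain ⟨d, hd, e | e | e | e⟩ := hcent w hwt.symm <;> subst e
    · exact absurd (hD2 _ hd hw2) hw1
    · have h := hw2
      rw [mul_assoc, ← mul_assoc d, ← htnD hd, mul_assoc t d, ← mul_assoc, ht, one_mul] at h
      rw [hD2 d hd h, mul_one] at hwx
      exact absurd hwx hc
    · exact ⟨d, hd, Or.inl hwx.symm⟩
    · exact ⟨d, hd, Or.inr hwx.symm⟩
  have hC : ∀ {x}, Commute x u → Commute x t → ∃ w, (x = w) ∧ (w = 1 ∨ w = t ∨ w = u ∨ w = t * u) := by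
    intro x hxu hxt
    obtain ⟨d, hd, hx⟩ := hcent x hxt.symm
    have hd1 : Commute d u → d = 1 := fun h => by
      have h' := hDu d hd
      rw [← h.eq, mul_assoc, hu, mul_one] at h'
      exact hD2 d hd (eq_inv_iff_mul_eq_one.1 h')
    have hxd : ∀ {w}, Commute w u → x = w * d → d = 1 := fun {w} hw e => hd1 (by
      have := hw.inv_left.mul_left hxu
      rwa [e, inv_mul_cancel_left] at this)
    rcases hx with e | e | e | e
    · exact ⟨_, e, Or.inl (hd1 (e ▸ hxu))⟩
    · exact ⟨_, e.trans (by rw [hxd htu e, mul_one]), Or.inr (Or.inl rfl)⟩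
    · exact ⟨_, e.trans (by rw [hxd (Commute.refl u) e, mul_one]), Or.inr (Or.inr (Or.inl rfl))⟩
    · exact ⟨_, e.trans (by rw [hxd (htu.mul_left (Commute.refl u)) e, mul_one]), Or.inr (Or.inr (Or.inr rfl))⟩
  -- the conjugates commuting with `t u`
  let T : Finset X := K.filter fun x => Commute x (t * u) ∧ ¬ Commute t x
  have hT : ∀ {x}, x ∈ T ↔ x ∈ K ∧ Commute x (t * u) ∧ ¬ Commute t x := Finset.mem_filter
  have hconj_comm : ∀ (c : X) {a b : X}, Commute (c * a * c⁻¹) (c * b * c⁻¹) ↔ Commute a b := fun c {a b} => by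
    rw [commute_iff_eq, commute_iff_eq, conj_mul, conj_mul, mul_left_inj, mul_right_inj]
  have hTcard : T.card + 1 = Nat.card ↥D := by
    have hA' : Set.BijOn (fun d : X => g * (u * d) * g⁻¹) (D : Set X) {x | x ∈ K ∧ Commute x (t * u)} := by
      refine ⟨fun d hd => ⟨hKconj g (hAu d hd).1, ?_⟩, fun a _ b _ e => mul_left_cancel ((mul_right_inj g).1
        ((mul_left_inj g⁻¹).1 e)), ?_⟩
      · rw [← hg]
        exact ((hconj_comm g).2 (hAu d hd).2.symm)
      · rintro x ⟨hx, hc⟩
        obtain ⟨d, hd, e⟩ := hA (g⁻¹ * x * g⁻¹⁻¹) (hKconj _ hx) (by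
          refine ((hconj_comm g).1 ?_).symm
          rw [hg, show g * (g⁻¹ * x * g⁻¹⁻¹) * g⁻¹ = x by group]
          exact hc)
        exact ⟨d, hd, by show g * (u * d) * g⁻¹ = x; rw [← e]; group⟩
    have hTu : (T : Set X) = {x | x ∈ K ∧ Commute x (t * u)} \ {u} := by
      ext x
      rw [Finset.mem_coe, hT]
      constructor
      · rintro ⟨hx, hc, hn⟩
        exact ⟨⟨hx, hc⟩, fun e => hn (by rw [e]; exact htu)⟩
      · rintro ⟨⟨hx, hc⟩, hn⟩
        refine ⟨hx, hc, fun h => hn ?_⟩
        obtain ⟨d, hd, rfl⟩ := hA x hx h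
        have hxu : Commute (u * d) u := by
          have := (h.inv_left.mul_left (hc.symm : Commute (t * u) (u * d))).symm
          rwa [inv_mul_cancel_left] at this
        obtain ⟨w, hw, e | e | e | e⟩ := hC hxu h.symm
        · exact absurd (hw.trans e) (hKinv hx).2
        · exact absurd hx (hK_t (by rw [hw.trans e]))
        · exact hw.trans e
        · exact absurd hx (hK_t (isConj_iff.2 ⟨g, hg.trans (hw.trans e).symm⟩))
    have hum : u ∈ {x | x ∈ K ∧ Commute x (t * u)} :=
      ⟨(hK u).2 (IsConj.refl u), htu.symm.mul_right (Commute.refl u)⟩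
    rw [← Set.ncard_coe_finset, hTu, Set.ncard_sdiff_singleton_add_one hum, ← Nat.card_coe_set_eq,
      ← Nat.card_congr (Equiv.ofBijective _ ⟨hA'.mapsTo.restrict_inj.2 hA'.injOn,
        hA'.mapsTo.restrict_surjective_iff.2 hA'.surjOn⟩)]
    rfl
  -- the decomposition
  have hKcard : K.card = Nat.card ↥D * (Nat.card ↥D + R.card) := by
    let A : Finset X := K.filter fun x => Commute t x
    have hAcard : A.card = Nat.card ↥D := by
      rw [← Nat.card_eq_finsetCard]
      refine (Nat.card_congr (Equiv.ofBijective (fun d : ↥D => (⟨u * d.1, Finset.mem_filter.2 (hAu d.1 d.2)⟩ :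
        {x // x ∈ A})) ⟨fun a b e => Subtype.ext (mul_left_cancel (congrArg Subtype.val e)), ?_⟩)).symm
      rintro ⟨x, hx⟩
      obtain ⟨hx1, hx2⟩ := Finset.mem_filter.1 hx
      obtain ⟨d, hd, e⟩ := hA x hx1 hx2
      exact ⟨⟨d, hd⟩, Subtype.ext e.symm⟩
    -- conjugating by square roots
    let rt : ↥D → X := fun d => ((half d.1 d.2).choose)⁻¹
    have hrt : ∀ d : ↥D, rt d * u * (rt d)⁻¹ = u * d.1 ∧ rt d * (t * u) * (rt d)⁻¹ = t * u * d.1 ∧
        Commute t (rt d) := fun d => by
      obtain ⟨he, hed⟩ := (half d.1 d.2).choose_spec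
      exact ⟨(half_conj d.1 d.2 _ he hed).1, (half_conj d.1 d.2 _ he hed).2, (hDt _ he).inv_right⟩
    let f : ↥D × ({x // x ∈ R} ⊕ {x // x ∈ T}) → {x // x ∈ K \ A} := fun p =>
      ⟨rt p.1 * Sum.elim Subtype.val Subtype.val p.2 * (rt p.1)⁻¹, by
        have hm : Sum.elim Subtype.val Subtype.val p.2 ∈ K ∧ ¬ Commute t (Sum.elim Subtype.val Subtype.val p.2) := by
          rcases p.2 with ⟨x, hx⟩ | ⟨x, hx⟩
          · exact ⟨(hR.1 hx).1, (hR.1 hx).2.2⟩
          · exact ⟨(hT.1 hx).1, (hT.1 hx).2.2⟩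
        refine Finset.mem_sdiff.2 ⟨hKconj _ hm.1, fun h => hm.2 ?_⟩
        have h' := (Finset.mem_filter.1 h).2
        refine (hconj_comm (rt p.1)).1 ?_
        rwa [show rt p.1 * t * (rt p.1)⁻¹ = t by rw [← (hrt p.1).2.2.eq, mul_inv_cancel_right]]⟩
    have hrt_t : ∀ d : ↥D, (rt d)⁻¹ * t * (rt d)⁻¹⁻¹ = t := fun d => by
      rw [← ((hrt d).2.2.inv_right).eq, mul_inv_cancel_right]
    have hf : Function.Bijective f := by
      constructor
      · rintro ⟨d, p⟩ ⟨d', p'⟩ e
        have e' := congrArg Subtype.val e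
        -- the middle involution of the image determines the data
        have hmd : ∀ (d : ↥D) (p : {x // x ∈ R} ⊕ {x // x ∈ T}), ∀ w ∈ zpowers (t * (f (d, p)).1),
            w * w = 1 → w ≠ 1 → Commute w t → Commute w (f (d, p)).1 →
            w = rt d * Sum.elim (fun _ => u) (fun _ => t * u) p * (rt d)⁻¹ := by
          intro d p w hw hw2 hw1 hwt hwx
          have hdt := hrt_t d
          set w' := (rt d)⁻¹ * w * (rt d)⁻¹⁻¹ with hw'
          have hx' : (rt d)⁻¹ * (f (d, p)).1 * (rt d)⁻¹⁻¹ = Sum.elim Subtype.val Subtype.val p := by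
            show (rt d)⁻¹ * (rt d * _ * (rt d)⁻¹) * (rt d)⁻¹⁻¹ = _
            group
          have h1 : Commute w' t := hdt ▸ (hconj_comm _).2 hwt
          have h2 : Commute w' (Sum.elim Subtype.val Subtype.val p) := hx' ▸ (hconj_comm _).2 hwx
          have h3 : w' * w' = 1 := by rw [hw', conj_mul, hw2, mul_one, mul_inv_cancel]
          have h4 : w' ≠ 1 := fun h => hw1 (conj_eq_one_iff.1 h)
          suffices w' = Sum.elim (fun _ => u) (fun _ => t * u) p by rw [← this, hw']; group
          obtain ⟨d'', hd'', hw''⟩ := hcent w' h1.symm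
          have hwu : Commute w' u := by
            have hz : w' ∈ zpowers (t * Sum.elim Subtype.val Subtype.val p) := by
              obtain ⟨i, rfl⟩ := mem_zpowers_iff.1 hw
              refine mem_zpowers_iff.2 ⟨i, ?_⟩
              rw [hw', ← conj_zpow, ← conj_mul, hdt, hx']
            rcases p with ⟨x, hx⟩ | ⟨x, hx⟩
            · obtain ⟨i, hi⟩ := mem_zpowers_iff.1 hz
              rw [← hi]; exact ((htu.mul_left (hR.1 hx).2.1)).zpow_left i
            · obtain ⟨i, hi⟩ := mem_zpowers_iff.1 hz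
              have hx2 : Commute (t * x) (t * u) :=
                ((Commute.refl t).mul_right htu).mul_left (hT.1 hx).2.1
              have h5 : Commute w' (t * u) := hi ▸ hx2.zpow_left i
              have := h1.inv_right.mul_right h5
              rwa [inv_mul_cancel_left] at this
          obtain ⟨v, hv, e1 | e1 | e1 | e1⟩ := hC hwu h1
          · exact absurd (hv.trans e1) h4
          · exfalso
            rw [hv.trans e1] at h2
            rcases p with ⟨x, hx⟩ | ⟨x, hx⟩
            · exact (hR.1 hx).2.2 h2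
            · exact (hT.1 hx).2.2 h2
          · rcases p with ⟨x, hx⟩ | ⟨x, hx⟩
            · exact hv.trans e1
            · exfalso
              rw [hv.trans e1] at h2
              refine (hT.1 hx).2.2 ?_
              have := (hT.1 hx).2.1.mul_right (h2.symm : Commute x u).inv_right
              rw [mul_inv_cancel_right] at this
              exact this.symm
          · rcases p with ⟨x, hx⟩ | ⟨x, hx⟩
            · exfalso
              rw [hv.trans e1] at h2
              refine (hR.1 hx).2.2 ?_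
              have := (h2.symm : Commute x (t * u)).mul_right (hR.1 hx).2.1.inv_right
              rw [mul_inv_cancel_right] at this
              exact this.symm
            · exact hv.trans e1
        have hfK := Finset.mem_sdiff.1 (f (d, p)).2
        obtain ⟨w, hw, hw2, hw1, hwt, hwx⟩ := exists_mid ht (hKinv hfK.1).1 (fun h => hK_t h hfK.1)
        have a1 := hmd d p w hw hw2 hw1 hwt hwx
        have a2 := hmd d' p' w (e ▸ hw) hw2 hw1 hwt (e ▸ hwx)
        have key : Sum.elim (fun _ => u) (fun _ => t * u) p = Sum.elim (fun _ => u) (fun _ => t * u) p' ∧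
            d = d' := by
          have hval : ∀ (d : ↥D) (p : {x // x ∈ R} ⊕ {x // x ∈ T}),
              rt d * Sum.elim (fun _ => u) (fun _ => t * u) p * (rt d)⁻¹ =
                Sum.elim (fun _ => u) (fun _ => t * u) p * d.1 := by
            intro d p; rcases p with p | p
            · exact (hrt d).1
            · exact (hrt d).2.1
          rw [hval] at a1 a2
          have h12 := a1.symm.trans a2
          have htD : ∀ c ∈ D, t ≠ c := fun c hc h => ht1 (h ▸ hD2 c hc (h ▸ ht))
          rcases p with p | p <;> rcases p' with p' | p' <;> simp only [Sum.elim_inl, Sum.elim_inr] at h12 ⊢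
          · exact ⟨trivial, Subtype.ext (mul_left_cancel h12)⟩
          · exfalso
            rw [htu.eq, mul_assoc] at h12
            exact htD _ (mul_mem d.2 (inv_mem d'.2)) (eq_mul_inv_iff_mul_eq.2 (mul_left_cancel h12).symm)
          · exfalso
            rw [htu.eq, mul_assoc] at h12
            exact htD _ (mul_mem d'.2 (inv_mem d.2)) (eq_mul_inv_iff_mul_eq.2 (mul_left_cancel h12))
          · exact ⟨trivial, Subtype.ext (mul_left_cancel h12)⟩
        obtain ⟨k1, rfl⟩ := key
        have e2 : Sum.elim Subtype.val Subtype.val p = Sum.elim Subtype.val Subtype.val p' :=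
          (mul_right_inj _).1 ((mul_left_inj _).1 e')
        have hneu : u ≠ t * u := fun h => ht1 (mul_eq_right.1 h.symm)
        rcases p with p | p <;> rcases p' with p' | p' <;> simp only [Sum.elim_inl, Sum.elim_inr] at k1 e2
        · rw [Subtype.ext e2]
        · exact absurd k1 hneu
        · exact absurd k1.symm hneu
        · rw [Subtype.ext e2]
      · rintro ⟨x, hx⟩
        obtain ⟨hx1, hx2⟩ := Finset.mem_sdiff.1 hx
        have hnc : ¬ Commute t x := fun h => hx2 (Finset.mem_filter.2 ⟨hx1, h⟩)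
        obtain ⟨d, hd, hcase⟩ := hmid hx1 hnc
        set r := rt ⟨d, hd⟩
        have hrt' : r⁻¹ * t * r⁻¹⁻¹ = t := hrt_t ⟨d, hd⟩
        have hnc' : ¬ Commute t (r⁻¹ * x * r⁻¹⁻¹) := fun h => hnc ((hconj_comm r⁻¹).1 (hrt'.symm ▸ h))
        rcases hcase with h | h
        · refine ⟨(⟨d, hd⟩, Sum.inl ⟨r⁻¹ * x * r⁻¹⁻¹, hR.2 ⟨hKconj _ hx1, ?_, hnc'⟩⟩), Subtype.ext ?_⟩
          · refine (hconj_comm r).1 ?_
            rw [show r * (r⁻¹ * x * r⁻¹⁻¹) * r⁻¹ = x by group, (hrt ⟨d, hd⟩).1]
            exact h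
          · show r * (r⁻¹ * x * r⁻¹⁻¹) * r⁻¹ = x
            group
        · refine ⟨(⟨d, hd⟩, Sum.inr ⟨r⁻¹ * x * r⁻¹⁻¹, hT.2 ⟨hKconj _ hx1, ?_, hnc'⟩⟩), Subtype.ext ?_⟩
          · refine (hconj_comm r).1 ?_
            rw [show r * (r⁻¹ * x * r⁻¹⁻¹) * r⁻¹ = x by group, (hrt ⟨d, hd⟩).2.1]
            exact h
          · show r * (r⁻¹ * x * r⁻¹⁻¹) * r⁻¹ = x
            group
    have h1 := Nat.card_congr (Equiv.ofBijective f hf)
    rw [Nat.card_prod, Nat.card_sum, Nat.card_eq_finsetCard, Nat.card_eq_finsetCard, Nat.card_eq_finsetCard,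
      Finset.card_sdiff_of_subset (Finset.filter_subset _ _)] at h1
    have h2 : A.card ≤ K.card := Finset.card_le_card (Finset.filter_subset _ _)
    rw [hAcard] at h1 h2
    have h3 : K.card = Nat.card ↥D + Nat.card ↥D * (R.card + T.card) := by omega
    rw [h3, ← hTcard]
    ring
  -- three divides the class inside `C(u)`
  have hR3 : 3 ∣ R.card := by
    have hRy : ∀ x ∈ R, y * x * y⁻¹ ∈ R := fun x hx => by
      obtain ⟨hx1, hx2, hx3⟩ := hR.1 hx
      refine hR.2 ⟨hKconj _ hx1, ?_, fun h => ?_⟩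
      · have := (hconj_comm y).2 hx2
        rwa [show y * u * y⁻¹ = u by rw [hyu.eq, mul_inv_cancel_right]] at this
      · have hxu : Commute (y * x * y⁻¹) u := by
          have := (hconj_comm y).2 hx2
          rwa [show y * u * y⁻¹ = u by rw [hyu.eq, mul_inv_cancel_right]] at this
        obtain ⟨d, hd, e⟩ := hA _ (hKconj y hx1) h
        obtain ⟨w, hw, e1 | e1 | e1 | e1⟩ := hC hxu h.symm
        · exact (hKinv (hKconj y hx1)).2 (hw.trans e1)
        · exact hK_t (by rw [hw.trans e1]) (hKconj y hx1)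
        · refine hx3 ?_
          have : x = u := by
            have h' : x = y⁻¹ * u * y := by rw [← hw.trans e1]; group
            rw [h', hyu.inv_left.eq, inv_mul_cancel_right]
          rw [this]; exact htu
        · exact hK_t (isConj_iff.2 ⟨g, hg.trans (hw.trans e1).symm⟩) (hKconj y hx1)
    let P : Subgroup X := zpowers y
    have hP : IsPGroup 3 ↥P := IsPGroup.of_card (n := 1) (by
      rw [Nat.card_zpowers, pow_one]; exact orderOf_eq_prime hy3 hy1)
    let : MulAction ↥P {x // x ∈ R} :=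
      { smul := fun c x => ⟨c.1 * x.1 * c.1⁻¹, by
          have hnat : ∀ i : ℕ, ∀ x ∈ R, y ^ i * x * (y ^ i)⁻¹ ∈ R := fun i => by
            induction i with
            | zero => simp
            | succ i ih =>
              intro x hx
              have h' := hRy _ (ih x hx)
              rwa [show y * (y ^ i * x * (y ^ i)⁻¹) * y⁻¹ = y ^ (i + 1) * x * (y ^ (i + 1))⁻¹ by
                rw [pow_succ']; group] at h'
          obtain ⟨i, hi⟩ : ∃ i : ℕ, y ^ i = c.1 :=
            (isOfFinOrder_of_finite y).mem_powers_iff_mem_zpowers.2 c.2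
          exact hi ▸ hnat i x.1 x.2⟩
        one_smul := fun x => Subtype.ext (by show (1 : X) * x.1 * (1 : X)⁻¹ = x.1; simp)
        mul_smul := fun a b x => Subtype.ext (by
          show (a.1 * b.1) * x.1 * (a.1 * b.1)⁻¹ = a.1 * (b.1 * x.1 * b.1⁻¹) * a.1⁻¹; group) }
    have h := hP.card_modEq_card_fixedPoints (α := {x // x ∈ R})
    have hempty : IsEmpty (MulAction.fixedPoints ↥P {x // x ∈ R}) := ⟨fun ⟨x, hx⟩ => by
      have e := congrArg Subtype.val (hx ⟨y, mem_zpowers y⟩)
      change y * x.1 * y⁻¹ = x.1 at e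
      obtain ⟨hx1, hx2, hx3⟩ := hR.1 x.2
      refine hx3 ?_
      rw [hy x.1 (hKinv hx1).1 (hKinv hx1).2 hx2 (mul_inv_eq_iff_eq_mul.1 e : y * x.1 = x.1 * y).symm]
      exact htu⟩
    rw [Nat.card_eq_zero.2 (Or.inl hempty), Nat.card_eq_finsetCard] at h
    exact Nat.modEq_zero_iff_dvd.1 h
  -- conclusion
  have horb : Nat.card X = K.card * Nat.card ↥(centralizer ({u} : Set X)) := by
    have h1 := (MulAction.stabilizer (ConjAct X) u).index_mul_card
    rw [MulAction.index_stabilizer] at h1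
    have e1 : (MulAction.orbit (ConjAct X) u).ncard = K.card := by
      rw [← Set.ncard_coe_finset]
      congr 1
      ext x
      rw [Finset.mem_coe, hK, ConjAct.mem_orbit_conjAct]
      exact isConj_comm
    have e2 : Nat.card ↥(MulAction.stabilizer (ConjAct X) u) = Nat.card ↥(centralizer ({u} : Set X)) := by
      rw [ConjAct.stabilizer_eq_centralizer]; rfl
    rw [← Nat.card_congr (ConjAct.toConjAct (G := X)).toEquiv.symm, ← h1, e1, e2]
  have h3C : 3 ∣ Nat.card ↥(centralizer ({u} : Set X)) := by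
    rw [← orderOf_eq_prime hy3 hy1, ← Subgroup.orderOf_mk y (mem_centralizer_singleton_iff.2 hyu.eq)]
    exact orderOf_dvd_natCard _
  rw [horb, hKcard, mul_assoc (Nat.card ↥D), mul_comm 9 (Nat.card ↥D)]
  refine mul_dvd_mul_left _ ?_
  rw [show 9 = 3 * 3 from rfl]
  refine mul_dvd_mul (Nat.dvd_add ?_ hR3) h3C
  rw [hk]
  exact dvd_pow_self 3 hk1

end Cfsg.Agent.U62Three.D
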